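import Groth.Agent.SpObjSS.ExactCx

/-!
# Derived functors of a composite at an acyclic object
-/

universe v v' v'' u u' u''

open CategoryTheory CategoryTheory.Limits

namespace Groth.Agent.TopDescent

variable {A : Type u} [Category.{v} A] [Abelian A] [EnoughInjectives A]
  {B : Type u'} [Category.{v'} B] [Abelian B] [EnoughInjectives B]
  {C : Type u''} [Category.{v''} C] [Abelian C]
  (E : A ⥤ B) [E.Additive] [PreservesFiniteLimits E]
  (Ψ : B ⥤ C) [Ψ.Additive] [PreservesFiniteLimits Ψ]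

/-- If `E` sends injectives to `Ψ`-acyclic objects and `X` is `E`-acyclic, `R^q(Ψ E) X ≅ R^qΨ (E X)`. -/
theorem nonempty_rightDerived_comp_of_acyclic
    (hE : ∀ I : A, Injective I → TriCat.IsRightAcyclic Ψ (E.obj I)) (q : ℕ) (X : A)
    (hX : TriCat.IsRightAcyclic E X) :
    Nonempty (((E ⋙ Ψ).rightDerived q).obj X ≅ (Ψ.rightDerived q).obj (E.obj X)) := by
  let := HasDerivedCategory.standard A
  let := HasDerivedCategory.standard B
  let := HasDerivedCategory.standard C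
  have : PreservesFiniteLimits (E ⋙ Ψ) := comp_preservesFiniteLimits E Ψ
  induction q generalizing X with
  | zero =>
    exact ⟨(E ⋙ Ψ).rightDerivedZeroIsoSelf.app X ≪≫ (Ψ.rightDerivedZeroIsoSelf.app (E.obj X)).symm⟩
  | succ p ih =>
    let S := ShortComplex.mk (Injective.ι X) (cokernel.π (Injective.ι X)) (cokernel.condition _)
    have hS : S.ShortExact :=
      { exact := ShortComplex.exact_of_g_is_cokernel _ (cokernelIsCokernel _)
        mono_f := inferInstanceAs (Mono (Injective.ι X))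
        epi_g := inferInstanceAs (Epi (cokernel.π _)) }
    have hS' : (S.map E).ShortExact := TriCat.shortExact_map_of_subsingleton hS (hX 1 Nat.one_pos)
    have hX₃ : TriCat.IsRightAcyclic E S.X₃ :=
      TriCat.acyclic₃ hS hX (fun i hi => by
        obtain ⟨j, rfl⟩ := Nat.exists_eq_succ_of_ne_zero hi.ne'
        exact E.isZero_rightDerived_obj_injective_succ j S.X₂)
    obtain ⟨δ, w₁, w₂, w₃, -, e₂, e₃⟩ := TriCat.exists_rightDerived_ses (E ⋙ Ψ) hS p
    obtain ⟨δ', w₁', w₂', w₃', -, e₂', e₃'⟩ := TriCat.exists_rightDerived_ses Ψ hS' p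
    have hz : ∀ i, 0 < i → IsZero ((Ψ.rightDerived i).obj (E.obj S.X₂)) := fun i hi =>
      hE _ (inferInstanceAs (Injective (Injective.under X))) i hi
    have hδ : Epi δ := e₃.epi_f (((E ⋙ Ψ).isZero_rightDerived_obj_injective_succ p S.X₂).eq_of_tgt _ _)
    have hδ' : Epi δ' := e₃'.epi_f ((hz (p + 1) (Nat.succ_pos p)).eq_of_tgt _ _)
    cases p with
    | zero =>
      exact @SpObjSS.nonempty_iso_of_cokernels C _ _ _ _ _ _ _ _ _ _ _ e₂ hδ _ _ _ e₂' hδ'
        ((E ⋙ Ψ).rightDerivedZeroIsoSelf.app S.X₂ ≪≫ (Ψ.rightDerivedZeroIsoSelf.app (E.obj S.X₂)).symm)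
        ((E ⋙ Ψ).rightDerivedZeroIsoSelf.app S.X₃ ≪≫ (Ψ.rightDerivedZeroIsoSelf.app (E.obj S.X₃)).symm)
        (((E ⋙ Ψ).rightDerivedZeroIsoSelf.hom ≫ Functor.whiskerLeft E Ψ.rightDerivedZeroIsoSelf.inv).naturality S.g)
    | succ r =>
      have hm : Mono δ := e₂.mono_g
        (((E ⋙ Ψ).isZero_rightDerived_obj_injective_succ r S.X₂).eq_of_src _ _)
      have hm' : Mono δ' := e₂'.mono_g ((hz (r + 1) (Nat.succ_pos r)).eq_of_src _ _)
      have hδi := isIso_of_mono_of_epi δ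
      have hδi' := isIso_of_mono_of_epi δ'
      obtain ⟨e⟩ := ih S.X₃ hX₃
      exact ⟨(asIso δ).symm ≪≫ e ≪≫ @asIso _ _ _ _ δ' hδi'⟩

end Groth.Agent.TopDescent
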