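import Groth.Agent.TopDescent.AcyclicComp
import Groth.Agent.EtDescSplit.PrependPage
import Groth.Agent.HyperLib.HyperSS
import Groth.Agent.LocCohLib.SES

/-!
# The spectral sequence of a resolution
-/

universe w v u

open CategoryTheory CategoryTheory.Limits

noncomputable section

namespace Groth.Agent.TopDescent

variable {A : Type u} [Category.{v} A] [Abelian A]

section InjectiveComplex

variable (I : CochainComplex A ℕ) [Injective I]

/-- Injective complexes are cones up to retraction. -/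
def coneRetract : HyperLib.coneObj I ⟶ I :=
  haveI : Mono (HyperLib.toCone I) := HomologicalComplex.mono_of_mono_f _ fun n =>
    (SplitMono.mk (f := biprod.lift (𝟙 _) (I.d n (n + 1))) biprod.fst (by simp)).mono
  Injective.factorThru (𝟙 I) (HyperLib.toCone I)

/-- The terms of the retraction. -/
abbrev rr (n : ℕ) : I.X n ⊞ I.X (n + 1) ⟶ I.X n := (coneRetract I).f n

theorem toCone_coneRetract (n : ℕ) :
    biprod.lift (𝟙 _) (I.d n (n + 1)) ≫ rr I n = 𝟙 (I.X n) := by
  haveI : Mono (HyperLib.toCone I) := HomologicalComplex.mono_of_mono_f _ fun n =>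
    (SplitMono.mk (f := biprod.lift (𝟙 _) (I.d n (n + 1))) biprod.fst (by simp)).mono
  exact HomologicalComplex.congr_hom (Injective.comp_factorThru (𝟙 I) (HyperLib.toCone I)) n

theorem coneRetract_comm (n : ℕ) : rr I n ≫ I.d n (n + 1) =
    ((biprod.snd : I.X n ⊞ I.X (n + 1) ⟶ I.X (n + 1)) ≫
      (biprod.inl : I.X (n + 1) ⟶ I.X (n + 1) ⊞ I.X (n + 1 + 1))) ≫ rr I (n + 1) := by
  refine ((coneRetract I).comm n (n + 1)).trans (congrArg (· ≫ (coneRetract I).f (n + 1)) ?_)
  dsimp [HyperLib.coneObj]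
  exact CochainComplex.of_d _ _ _

/-- The contracting homotopy. -/
def coneHomotopy (n : ℕ) : I.X (n + 1) ⟶ I.X n :=
  (biprod.inr : I.X (n + 1) ⟶ I.X n ⊞ I.X (n + 1)) ≫ rr I n

theorem coneHomotopy_spec (n : ℕ) :
    coneHomotopy I n ≫ I.d n (n + 1) + I.d (n + 1) (n + 1 + 1) ≫ coneHomotopy I (n + 1) = 𝟙 _ := by
  have h1 : coneHomotopy I n ≫ I.d n (n + 1) =
      (biprod.inl : I.X (n + 1) ⟶ I.X (n + 1) ⊞ I.X (n + 1 + 1)) ≫ rr I (n + 1) := by
    rw [coneHomotopy, Category.assoc, coneRetract_comm, Category.assoc, biprod.inr_snd_assoc]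
  rw [h1, coneHomotopy, ← Category.assoc, ← Preadditive.add_comp]
  refine Eq.trans ?_ (toCone_coneRetract I (n + 1))
  refine congrArg (· ≫ rr I (n + 1)) ?_
  rw [biprod.lift_eq, Category.id_comp]

/-- Any additive functor keeps an injective complex exact in positive degrees. -/
theorem exactAt_map_of_injective {B : Type*} [Category B] [Abelian B] (Φ : A ⥤ B) [Φ.Additive] (n : ℕ) :
    ((Φ.mapHomologicalComplex (ComplexShape.up ℕ)).obj I).ExactAt (n + 1) := by
  rw [HomologicalComplex.exactAt_iff' _ n (n + 1) (n + 1 + 1) (by simp) (by simp),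
    ShortComplex.exact_iff_exact_up_to_refinements]
  intro W x hx
  let x' : W ⟶ Φ.obj (I.X (n + 1)) := x
  have hx' : x' ≫ Φ.map (I.d (n + 1) (n + 1 + 1)) = 0 := hx
  refine ⟨W, 𝟙 W, inferInstance, x' ≫ Φ.map (coneHomotopy I n), (Category.id_comp x).trans ?_⟩
  show x' = (x' ≫ Φ.map (coneHomotopy I n)) ≫ Φ.map (I.d n (n + 1))
  have h := congrArg (fun m => x' ≫ Φ.map m) (coneHomotopy_spec I n)
  simp only [Functor.map_add, Functor.map_comp, Preadditive.comp_add, CategoryTheory.Functor.map_id,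
    Category.comp_id] at h
  rw [← Category.assoc x' (Φ.map (I.d (n + 1) (n + 1 + 1))), hx', zero_comp, add_zero] at h
  rw [Category.assoc]
  exact h.symm

/-- The terms of an injective complex are injective. -/
theorem injective_X [EnoughInjectives A] (n : ℕ) : Injective (I.X n) := by
  refine ⟨fun {Y Z} g f _ => ?_⟩
  let J : ℕ → A := fun m => Injective.under (I.X m)
  let D : CochainComplex A ℕ := CochainComplex.of (fun m => J m ⊞ J (m + 1))
    (fun m => biprod.snd ≫ biprod.inl) (fun m => by simp)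
  let φ : I ⟶ D :=
    { f := fun m => biprod.lift (Injective.ι (I.X m)) (I.d m (m + 1) ≫ Injective.ι (I.X (m + 1)))
      comm' := fun i j h => by
        obtain rfl : i + 1 = j := h
        dsimp [D]
        rw [CochainComplex.of_d]
        apply biprod.hom_ext <;> simp }
  haveI : ∀ m, Mono (φ.f m) := fun m => by
    refine Preadditive.mono_of_cancel_zero _ fun {W} k hk => ?_
    refine (cancel_mono (Injective.ι (I.X m))).1 ?_
    rw [zero_comp]
    have h' := congrArg (fun z : W ⟶ J m ⊞ J (m + 1) => z ≫ biprod.fst) hk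
    simpa [φ] using h'
  haveI : Mono φ := HomologicalComplex.mono_of_mono_f _ inferInstance
  have hr : φ ≫ Injective.factorThru (𝟙 I) φ = 𝟙 I := Injective.comp_factorThru _ _
  have hr' : φ.f n ≫ (Injective.factorThru (𝟙 I) φ).f n = 𝟙 (I.X n) := HomologicalComplex.congr_hom hr n
  haveI : Injective (J n ⊞ J (n + 1)) := inferInstance
  refine ⟨Injective.factorThru (J := J n ⊞ J (n + 1)) (g ≫ φ.f n) f ≫ (Injective.factorThru (𝟙 I) φ).f n, ?_⟩
  rw [← Category.assoc, Injective.comp_factorThru, Category.assoc]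
  exact (congrArg (g ≫ ·) hr').trans (Category.comp_id g)

/-- The zero cycles of an injective complex are injective. -/
theorem injective_cycles_zero [EnoughInjectives A] : Injective (I.cycles 0) := by
  haveI := injective_X I 0
  let π₀ : I.X 0 ⟶ I.X 0 := (biprod.inl : I.X 0 ⟶ I.X 0 ⊞ I.X (0 + 1)) ≫ rr I 0
  have hπd : π₀ ≫ I.d 0 (0 + 1) = 0 := by
    show (biprod.inl ≫ rr I 0) ≫ I.d 0 (0 + 1) = 0
    rw [Category.assoc, coneRetract_comm, Category.assoc, biprod.inl_snd_assoc, zero_comp]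
  have hπi : I.iCycles 0 ≫ π₀ = I.iCycles 0 := by
    refine Eq.trans ?_ ((congrArg (I.iCycles 0 ≫ ·) (toCone_coneRetract I 0)).trans (Category.comp_id _))
    show I.iCycles 0 ≫ biprod.inl ≫ rr I 0 = I.iCycles 0 ≫ biprod.lift (𝟙 _) (I.d 0 (0 + 1)) ≫ rr I 0
    rw [← Category.assoc, ← Category.assoc]
    refine congrArg (· ≫ rr I 0) ?_
    apply biprod.hom_ext <;> simp
  refine Retract.injective (Y := I.X 0)
    { i := I.iCycles 0
      r := I.liftCycles π₀ (0 + 1) (by simp) hπd
      retract := ?_ }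
  rw [← cancel_mono (I.iCycles 0), Category.assoc, HomologicalComplex.liftCycles_i, Category.id_comp, hπi]

end InjectiveComplex

section SS

variable [EnoughInjectives A] [EnoughInjectives (CochainComplex A ℕ)]
  (Γ : A ⥤ AddCommGrpCat.{w}) [Γ.Additive] [PreservesFiniteLimits Γ]

open SpObjSS (hZero)

theorem isIso_π₀ {B : Type*} [Category B] [Abelian B] (K : CochainComplex B ℕ) : IsIso (K.homologyπ 0) :=
  K.isIso_homologyπ 0 0 (by simp) (K.shape 0 0 (by simp))

/-- `H⁰` is the zero cycles. -/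
def zeroIso {B : Type*} [Category B] [Abelian B] (K : CochainComplex B ℕ) : K.cycles 0 ≅ K.homology 0 :=
  @asIso _ _ _ _ (K.homologyπ 0) (isIso_π₀ K)

/-- Zero cycles commute with left exact functors. -/
def cyclesMapIso (K : CochainComplex A ℕ) :
    ((Γ.mapHomologicalComplex (ComplexShape.up ℕ)).obj K).cycles 0 ≅ Γ.obj (K.cycles 0) :=
  (((Γ.mapHomologicalComplex (ComplexShape.up ℕ)).obj K).cyclesIsKernel 0 1 (by simp)).conePointUniqueUpToIso
    (KernelFork.mapIsLimit _ (K.cyclesIsKernel 0 1 (by simp)) Γ)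

theorem cyclesMapIso_hom (K : CochainComplex A ℕ) :
    (cyclesMapIso Γ K).hom ≫ Γ.map (K.iCycles 0) = ((Γ.mapHomologicalComplex (ComplexShape.up ℕ)).obj K).iCycles 0 :=
  IsLimit.conePointUniqueUpToIso_hom_comp _ _ WalkingParallelPair.zero

/-- `H⁰ ∘ Γ ≅ Γ ∘ H⁰` on complexes. -/
def hZeroMapIso :
    Γ.mapHomologicalComplex (ComplexShape.up ℕ) ⋙ hZero (𝟭 (CochainComplex AddCommGrpCat.{w} ℕ)) ≅
      hZero (𝟭 (CochainComplex A ℕ)) ⋙ Γ :=
  NatIso.ofComponents (fun K : CochainComplex A ℕ =>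
    (zeroIso ((Γ.mapHomologicalComplex (ComplexShape.up ℕ)).obj K)).symm ≪≫ cyclesMapIso Γ K ≪≫
      Γ.mapIso (zeroIso K))
    (fun {K L : CochainComplex A ℕ} (φ : K ⟶ L) => by
      haveI := isIso_π₀ ((Γ.mapHomologicalComplex (ComplexShape.up ℕ)).obj L)
      haveI := isIso_π₀ ((Γ.mapHomologicalComplex (ComplexShape.up ℕ)).obj K)
      haveI := isIso_π₀ K
      haveI := isIso_π₀ L
      show HomologicalComplex.homologyMap ((Γ.mapHomologicalComplex (ComplexShape.up ℕ)).map φ) 0 ≫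
          ((zeroIso ((Γ.mapHomologicalComplex (ComplexShape.up ℕ)).obj L)).inv ≫
            (cyclesMapIso Γ L).hom ≫ Γ.map (zeroIso L).hom) =
        ((zeroIso ((Γ.mapHomologicalComplex (ComplexShape.up ℕ)).obj K)).inv ≫
            (cyclesMapIso Γ K).hom ≫ Γ.map (zeroIso K).hom) ≫ Γ.map (HomologicalComplex.homologyMap φ 0)
      simp only [zeroIso, asIso_inv, asIso_hom, Category.assoc]
      rw [← cancel_epi (((Γ.mapHomologicalComplex (ComplexShape.up ℕ)).obj K).homologyπ 0)]
      have hc : HomologicalComplex.cyclesMap ((Γ.mapHomologicalComplex (ComplexShape.up ℕ)).map φ) 0 ≫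
          (cyclesMapIso Γ L).hom = (cyclesMapIso Γ K).hom ≫ Γ.map (HomologicalComplex.cyclesMap φ 0) := by
        refine (cancel_mono (Γ.map (L.iCycles 0))).1 ?_
        refine (Category.assoc _ _ _).trans ((congrArg (_ ≫ ·) (cyclesMapIso_hom Γ L)).trans
          ((HomologicalComplex.cyclesMap_i _ 0).trans ?_))
        refine Eq.trans ?_ ((Category.assoc _ _ _).trans (congrArg ((cyclesMapIso Γ K).hom ≫ ·)
          ((Γ.map_comp _ _).symm.trans ((congrArg Γ.map (HomologicalComplex.cyclesMap_i φ 0)).trans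
            (Γ.map_comp _ _))))).symm
        exact ((Category.assoc _ _ _).symm.trans (congrArg (· ≫ Γ.map (φ.f 0)) (cyclesMapIso_hom Γ K))).symm
      simp only [HomologicalComplex.homologyπ_naturality_assoc, IsIso.hom_inv_id_assoc]
      rw [reassoc_of% hc, ← Γ.map_comp, ← Γ.map_comp, ← HomologicalComplex.homologyπ_naturality])

omit [PreservesFiniteLimits Γ] in
theorem nonempty_derived_X_iso (K : CochainComplex A ℕ) (p q : ℕ) :
    Nonempty ((((Γ.mapHomologicalComplex (ComplexShape.up ℕ)).rightDerived q).obj K).X p ≅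
      (Γ.rightDerived q).obj (K.X p)) := by
  let E := HomologicalComplex.eval A (ComplexShape.up ℕ) p
  haveI : E.PreservesInjectiveObjects := ⟨fun {I} hI => injective_X I p⟩
  let e : Γ.mapHomologicalComplex (ComplexShape.up ℕ) ⋙ HomologicalComplex.eval AddCommGrpCat.{w} (ComplexShape.up ℕ) p ≅
      E ⋙ Γ := NatIso.ofComponents (fun _ => Iso.refl _) (fun _ => (Category.comp_id _).trans (Category.id_comp _).symm)
  obtain ⟨e₂⟩ := LocCohLib.nonempty_rightDerived_precomp E Γ K q
  exact ⟨((SiteBase.rightDerivedCompIso (Γ.mapHomologicalComplex (ComplexShape.up ℕ))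
      (HomologicalComplex.eval AddCommGrpCat.{w} (ComplexShape.up ℕ) p) q).app K).symm ≪≫
    (SiteBase.rightDerivedCongr e q).app K ≪≫ e₂⟩

/-- The spectral sequence of a resolution `F → K`. -/
theorem exists_resolutionSS (K : CochainComplex A ℕ) (F : A) (hK : ∀ p, K.ExactAt (p + 1))
    (e : K.homology 0 ≅ F) (H : ℕ → AddCommGrpCat.{w}) (eH : ∀ n, Nonempty ((Γ.rightDerived n).obj F ≅ H n))
    (T : ℤ → ℤ → AddCommGrpCat.{w}) (eT : ∀ p q : ℕ, Nonempty ((Γ.rightDerived q).obj (K.X p) ≅ T p q))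
    (hT : ∀ p q : ℤ, p < 0 ∨ q < 0 → IsZero (T p q)) (O : AddCommGrpCat.{w}) (hO : IsZero O) :
    ∃ (E : CohomologicalSpectralSequence AddCommGrpCat.{w} 1)
      (a : SpSeq.Abutment E (fun n : ℤ => if 0 ≤ n then H n.toNat else O)),
      (∀ n, a.IsFinite n) ∧ SpSeq.IsBounded E ∧ ∀ p q : ℤ, Nonempty ((E.page 1 le_rfl).X (p, q) ≅ T p q) := by
  let Ch := CochainComplex AddCommGrpCat.{w} ℕ
  let ChA := CochainComplex A ℕ
  have hid : ∀ S : ShortComplex Ch, S.ShortExact → (S.map (𝟭 Ch)).ShortExact := fun S hS => hS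
  have hidA : ∀ S : ShortComplex ChA, S.ShortExact → (S.map (𝟭 ChA)).ShortExact := fun S hS => hS
  have hI : ∀ I : Ch, Injective I → ∀ p : ℕ, ((𝟭 Ch).obj I).ExactAt (p + 1) := fun I hI p =>
    HyperLib.exactAt_of_injective I p
  have hIA : ∀ I : ChA, Injective I → ∀ p : ℕ, ((𝟭 ChA).obj I).ExactAt (p + 1) := fun I hI p =>
    HyperLib.exactAt_of_injective I p
  have := SpObjSS.preservesFiniteLimits_hZero (𝟭 Ch) hid
  have := SpObjSS.preservesFiniteLimits_hZero (𝟭 ChA) hidA
  have hEA : ∀ I : ChA, Injective I → TriCat.IsRightAcyclic Γ ((hZero (𝟭 ChA)).obj I) := fun I hI => by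
    haveI := injective_cycles_zero I
    haveI : Injective ((hZero (𝟭 ChA)).obj I) := Injective.of_iso (@asIso _ _ _ _ (I.homologyπ 0) (isIso_π₀ I)) ‹_›
    exact TriCat.isRightAcyclic_of_injective _
  have hKA : TriCat.IsRightAcyclic (hZero (𝟭 ChA)) K := fun i hi => by
    obtain ⟨j, rfl⟩ := Nat.exists_eq_succ_of_ne_zero hi.ne'
    exact IsZero.of_iso ((HomologicalComplex.exactAt_iff_isZero_homology _ _).1 (hK j))
      (SpObjSS.nonempty_rightDerived_hZero_iso (𝟭 ChA) hidA hIA (j + 1) K).some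
  obtain ⟨E, a, ha, -, hE⟩ := SpObjSS.exists_grothendieck_spectralSequence'
    (Γ.mapHomologicalComplex (ComplexShape.up ℕ)) (hZero (𝟭 Ch))
    (fun Q hQ i hi => by
      obtain ⟨j, rfl⟩ := Nat.exists_eq_succ_of_ne_zero hi.ne'
      exact IsZero.of_iso ((HomologicalComplex.exactAt_iff_isZero_homology _ _).1 (exactAt_map_of_injective Q Γ j))
        (SpObjSS.nonempty_rightDerived_hZero_iso (𝟭 Ch) hid hI (j + 1) _).some) K H
    (fun n => ⟨(SiteBase.rightDerivedCongr (hZeroMapIso Γ) n).app K ≪≫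
      (nonempty_rightDerived_comp_of_acyclic (hZero (𝟭 ChA)) Γ hEA n K hKA).some ≪≫
      (Γ.rightDerived n).mapIso e ≪≫ (eH n).some⟩)
    (fun p q => (((Γ.mapHomologicalComplex (ComplexShape.up ℕ)).rightDerived q).obj K).homology p)
    (fun p q => SpObjSS.nonempty_rightDerived_hZero_iso (𝟭 Ch) hid hI p _) O hO
  refine EtDescSplit.exists_spectralSequence_of_pageTwo
    (fun q => ((Γ.mapHomologicalComplex (ComplexShape.up ℕ)).rightDerived q).obj K)
    (E := E) (fun p q => ?_) (fun p q h => ?_) a ha _ (fun p q => ?_) hT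
  · exact ⟨(hE p q).some ≪≫ eqToIso (by rw [if_pos ⟨Int.natCast_nonneg p, Int.natCast_nonneg q⟩]; rfl)⟩
  · obtain ⟨i⟩ := hE p q
    rw [if_neg (by rintro ⟨h₁, h₂⟩; omega)] at i
    exact hO.of_iso i
  · exact ⟨(nonempty_derived_X_iso Γ K p q).some ≪≫ (eT p q).some⟩

end SS

end Groth.Agent.TopDescent

end
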