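import Groth.Agent.TopDescent.FiniteFibre
import Groth.Agent.TopDescent.ResolutionSS

/-!
# The Cech resolution of a closed map with finite fibres
-/

set_option autoImplicit false

universe u

open CategoryTheory CategoryTheory.Limits TopologicalSpace Opposite Topology Filter

noncomputable section

namespace Groth.Agent.TopDescent

open EtDescSplit (pow powMap powCx dd dd_apply)
open SpObjSS (secAt)

variable {S X : TopCat.{u}} (f : X ⟶ S) (F : CohTop.Ab S)

/-- The sheaf of germ families on a fibre power, pushed to the base. -/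
def kSh (n : ℕ) : CohTop.Ab S := (CohTop.push (pow f n).hom).obj (gSh F (pow f n))

/-- The differential. -/
def kD (n : ℕ) : kSh f F n ⟶ kSh f F (n + 1) :=
  ⟨{ app := fun U => AddCommGrpCat.ofHom (ddU F f U.unop n)
     naturality := fun U U' i => by
      ext σ
      exact (rU_ddU f (leOfHom i.unop) n σ).symm }⟩

/-- The Cech resolution. -/
def kCx : CochainComplex (CohTop.Ab S) ℕ :=
  CochainComplex.of (kSh f F) (kD f F) (fun n => by
    refine CategoryTheory.Sheaf.hom_ext (NatTrans.ext (funext fun U => ?_))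
    ext σ
    exact dd_dd f (gU F U.unop) n σ)

theorem kCx_d (n : ℕ) : (kCx f F).d n (n + 1) = kD f F n := CochainComplex.of_d _ _ _

theorem kCx_exactAt (hf : FinFib (Over.mk f)) (hsurj : Function.Surjective f) (n : ℕ) :
    (kCx f F).ExactAt (n + 1) := by
  rw [HomologicalComplex.exactAt_iff' _ n (n + 1) (n + 1 + 1) (by simp) (by simp)]
  refine (TopCat.Sheaf.exact_iff_stalkFunctor_map_exact _).2 fun y => ?_
  rw [ShortComplex.ab_exact_iff]
  intro g hg
  let g' : TopCat.Presheaf.stalk (C := AddCommGrpCat.{u}) (kSh f F (n + 1)).obj y := g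
  obtain ⟨U, hy, x, hx⟩ := TopCat.Presheaf.exists_germ_eq (F := (kSh f F (n + 1)).obj) g'
  have hg' : (TopCat.Presheaf.stalkFunctor AddCommGrpCat.{u} y).map (kD f F (n + 1)).hom g' = 0 := by
    rw [← kCx_d]; exact hg
  rw [← hx] at hg'
  replace hg' := (TopCat.Presheaf.stalkFunctor_map_germ_apply U y hy (kD f F (n + 1)).hom x).symm.trans hg'
  obtain ⟨U', hy', i, j, he⟩ := TopCat.Presheaf.germ_eq (kSh f F (n + 1 + 1)).obj y hy hy _ 0
    (hg'.trans (map_zero _).symm)
  have hx' : ddU F f U' (n + 1) (rU _ (leOfHom i) x) = 0 :=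
    ((rU_ddU f (leOfHom i) (n + 1) x).symm.trans he).trans (map_zero _)
  obtain ⟨V, hyV, hVU, z, hz⟩ := exists_primitive_near f F hf hsurj n U' y hy' _ hx'
  refine ⟨TopCat.Presheaf.germ (kSh f F n).obj V y hyV z, ?_⟩
  show (TopCat.Presheaf.stalkFunctor AddCommGrpCat.{u} y).map ((kCx f F).d n (n + 1)).hom _ = g'
  rw [kCx_d]
  refine (TopCat.Presheaf.stalkFunctor_map_germ_apply V y hyV (kD f F n).hom z).trans ?_
  refine (congrArg (TopCat.Presheaf.germ (kSh f F (n + 1)).obj V y hyV) hz).trans ?_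
  refine Eq.trans ?_ hx
  exact TopCat.Presheaf.germ_res_apply (F := (kSh f F (n + 1)).obj) (homOfLE (hVU.trans (leOfHom i))) y hyV x

/-- The augmentation. -/
def kAug : F ⟶ kSh f F 0 := gEta F (pow f 0)

theorem kAug_d : kAug f F ≫ (kCx f F).d 0 1 = 0 := by
  rw [kCx_d f F 0]
  refine CategoryTheory.Sheaf.hom_ext (NatTrans.ext (funext fun U => ?_))
  ext t
  refine Subtype.ext (funext fun w => funext fun x => ?_)
  refine (ddU_zero_val f U.unop _ w x).trans ?_
  exact sub_self _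

theorem kAug_mono (hsurj : Function.Surjective f) : Mono (kAug f F) := by
  haveI : ∀ U, Mono ((kAug f F).hom.app U) := fun U => by
    rw [AddCommGrpCat.mono_iff_injective]
    intro a b h
    refine TopCat.Presheaf.section_ext F U.unop a b fun y hy => ?_
    obtain ⟨x₀, rfl⟩ := hsurj y
    exact congrFun (congrFun (congrArg Subtype.val h)
      ⟨mkPt f (fun _ : Fin (0 + 1) => x₀) (f x₀) (fun _ => rfl), show _ ∈ U.unop by rw [mkPt_hom]; exact hy⟩)
      ⟨f x₀, mkPt_hom f _ _ _⟩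
  haveI : Mono (kAug f F).hom := NatTrans.mono_of_mono_app _
  exact (sheafToPresheaf _ _).mono_of_mono_map (f := kAug f F) ‹_›

theorem kAug_exact (hf : FinFib (Over.mk f)) (hsurj : Function.Surjective f) :
    (ShortComplex.mk (kAug f F) ((kCx f F).d 0 1) (kAug_d f F)).Exact := by
  refine (TopCat.Sheaf.exact_iff_stalkFunctor_map_exact _).2 fun y => ?_
  rw [ShortComplex.ab_exact_iff]
  intro g hg
  let g' : TopCat.Presheaf.stalk (C := AddCommGrpCat.{u}) (kSh f F 0).obj y := g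
  obtain ⟨U, hy, x, hx⟩ := TopCat.Presheaf.exists_germ_eq (F := (kSh f F 0).obj) g'
  have hg' : (TopCat.Presheaf.stalkFunctor AddCommGrpCat.{u} y).map (kD f F 0).hom g' = 0 := by
    rw [← kCx_d]; exact hg
  rw [← hx] at hg'
  replace hg' := (TopCat.Presheaf.stalkFunctor_map_germ_apply U y hy (kD f F 0).hom x).symm.trans hg'
  obtain ⟨U', hy', i, j, he⟩ := TopCat.Presheaf.germ_eq (kSh f F (0 + 1)).obj y hy hy _ 0
    (hg'.trans (map_zero _).symm)
  let x' : gGroup F (over (pow f 0) U') := rU _ (leOfHom i) x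
  have hx' : ddU F f U' 0 x' = 0 := ((rU_ddU f (leOfHom i) 0 x).symm.trans he).trans (map_zero _)
  obtain ⟨a₀, ha₀⟩ := hsurj y
  let w₀ : (Opens.map (pow f 0).hom).obj U' :=
    ⟨mkPt f (fun _ : Fin (0 + 1) => a₀) y (fun _ => ha₀), show _ ∈ U' by rw [mkPt_hom]; exact hy'⟩
  obtain ⟨U₁, hy₁, t, ht⟩ := TopCat.Presheaf.exists_germ_eq (F := F.obj) (x'.1 w₀ ⟨y, mkPt_hom f _ _ _⟩)
  let t' := F.obj.map (homOfLE (inf_le_right : U' ⊓ U₁ ≤ U₁)).op t
  let σ : gGroup F (over (pow f 0) (U' ⊓ U₁)) := (kAug f F).hom.app (op (U' ⊓ U₁)) t'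
  obtain ⟨V, hyV, hle, hV⟩ := (finFib_pow f hf 0).exists_vanish (U' ⊓ U₁) y ⟨hy', hy₁⟩
    (σ - rU _ inf_le_left x') (fun w e => by
      show gm F y _ t' - x'.1 ⟨w.1, w.2.1⟩ ⟨y, e⟩ = 0
      rw [gm_res F inf_le_right y _ t, sub_eq_zero]
      exact ht.trans (cocycle_zero_eq f U' x' hx' _ _ y _ _))
  refine ⟨TopCat.Presheaf.germ F.obj (U' ⊓ U₁) y ⟨hy', hy₁⟩ t', ?_⟩
  show (TopCat.Presheaf.stalkFunctor AddCommGrpCat.{u} y).map (kAug f F).hom _ = g'
  refine (TopCat.Presheaf.stalkFunctor_map_germ_apply (U' ⊓ U₁) y ⟨hy', hy₁⟩ (kAug f F).hom t').trans ?_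
  rw [map_sub, sub_eq_zero] at hV
  refine (TopCat.Presheaf.germ_ext (kSh f F 0).obj V hyV (homOfLE hle)
    (homOfLE (hle.trans (inf_le_left.trans (leOfHom i)))) ?_).trans hx
  exact hV

/-- `H⁰` of a complex with an exact augmentation. -/
theorem nonempty_homology_zero_of_augmented {C : Type*} [Category C] [Abelian C] (K : CochainComplex C ℕ) {A : C}
    (a : A ⟶ K.X 0) [Mono a] (w : a ≫ K.d 0 1 = 0) (h : (ShortComplex.mk a (K.d 0 1) w).Exact) :
    Nonempty (K.homology 0 ≅ A) :=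
  haveI : Mono (ShortComplex.mk a (K.d 0 1) w).f := inferInstanceAs (Mono a)
  ⟨(zeroIso K).symm ≪≫ (K.cyclesIsKernel 0 1 (by simp)).conePointUniqueUpToIso h.fIsKernel⟩

/-- `H⁰` of the Cech resolution. -/
theorem nonempty_kCx_homology_zero (hf : FinFib (Over.mk f)) (hsurj : Function.Surjective f) :
    Nonempty ((kCx f F).homology 0 ≅ F) := by
  have hm : @Mono (CohTop.Ab S) _ F ((kCx f F).X 0) (kAug f F) := kAug_mono f F hsurj
  exact @nonempty_homology_zero_of_augmented (CohTop.Ab S) _ _ (kCx f F) F (kAug f F) hm (kAug_d f F)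
    (kAug_exact f F hf hsurj)

/-- Direct image along a closed map with finite separated fibres is exact. -/
theorem preservesFiniteColimits_push {W : Over S} (hW : FinFib W) :
    PreservesFiniteColimits (CohTop.push W.hom) := by
  haveI : PreservesLimitsOfSize.{0, 0} (CohTop.push W.hom) :=
    (TopCat.Sheaf.pullbackPushforwardAdjunction AddCommGrpCat.{u} W.hom).rightAdjoint_preservesLimits
  haveI : PreservesFiniteLimits (CohTop.push W.hom) := PreservesLimitsOfSize.preservesFiniteLimits.{0, 0} _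
  refine ((Functor.preservesFiniteColimits_tfae (CohTop.push W.hom)).out 3 0).2 fun T hT => ?_
  haveI := hT.mono_f
  refine ⟨hT.exact.map_of_mono_of_preservesKernel (CohTop.push W.hom) hT.mono_f inferInstance, ?_⟩
  refine (TopCat.Sheaf.isLocallySurjective_iff_epi _).1
    ((TopCat.Presheaf.isLocallySurjective_iff _).2 fun U t y hy => ?_)
  haveI := hT.epi_g
  have hl : ∀ a : {w : W.left // W.hom w = y}, ∃ N : Opens W.left, a.1 ∈ N ∧ ∃ h : N ≤ (Opens.map W.hom).obj U,
      ∃ s, T.g.hom.app (op N) s = T.X₃.obj.map (homOfLE h).op t := by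
    rintro ⟨a, ha⟩
    obtain ⟨N, hNU, ⟨s, hs⟩, haN⟩ := (TopCat.Presheaf.isLocallySurjective_iff _).1
      ((TopCat.Sheaf.isLocallySurjective_iff_epi T.g).2 hT.epi_g) ((Opens.map W.hom).obj U) t a
      (show W.hom a ∈ U from ha.symm ▸ hy)
    exact ⟨N, haN, hNU, s, hs⟩
  choose N hN hNU s hs using hl
  obtain ⟨N', V, hyV, hmem, hle, hdis, hcov⟩ := hW.exists_disjoint y N hN
  let D : Opens W.left := (Opens.map W.hom).obj (U ⊓ V)
  let sf : ∀ a : {w : W.left // W.hom w = y}, T.X₂.obj.obj (op (N' a ⊓ D)) := fun a =>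
    T.X₂.obj.map (homOfLE (inf_le_left.trans (hle a))).op (s a)
  have hcomp : TopCat.Presheaf.IsCompatible T.X₂.obj (fun a => N' a ⊓ D) sf := by
    intro a b
    by_cases hab : a = b
    · subst hab; rfl
    · refine TopCat.Presheaf.section_ext T.X₂ _ _ _ fun z hz => ?_
      exact absurd (hdis a b z hz.1.1 hz.2.1) hab
  obtain ⟨σ, hσ, -⟩ := TopCat.Sheaf.existsUnique_gluing' T.X₂ (fun a => N' a ⊓ D) D (fun a => homOfLE inf_le_right)
    (fun z hz => by
      obtain ⟨a, ha⟩ := hcov z hz.2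
      exact Opens.mem_iSup.2 ⟨a, ha, hz⟩) sf hcomp
  refine ⟨U ⊓ V, inf_le_left, ⟨σ, ?_⟩, hy, hyV⟩
  refine TopCat.Presheaf.section_ext T.X₃ D _ _ fun z hz => ?_
  obtain ⟨a, ha⟩ := hcov z hz.2
  have h1 : TopCat.Presheaf.germ T.X₂.obj D z hz σ =
      TopCat.Presheaf.germ T.X₂.obj (N a) z (hle a ha) (s a) := by
    refine (TopCat.Presheaf.germ_res_apply (F := T.X₂.obj) (homOfLE inf_le_right) z
      (⟨ha, hz⟩ : z ∈ N' a ⊓ D) σ).symm.trans ?_
    refine (congrArg _ (hσ a)).trans ?_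
    exact TopCat.Presheaf.germ_res_apply (F := T.X₂.obj) _ z _ (s a)
  refine ((TopCat.Presheaf.stalkFunctor_map_germ_apply D z hz T.g.hom σ).symm.trans ?_)
  rw [h1]
  refine (TopCat.Presheaf.stalkFunctor_map_germ_apply (N a) z (hle a ha) T.g.hom (s a)).trans ?_
  rw [hs a]
  refine (TopCat.Presheaf.germ_res_apply (F := T.X₃.obj) _ z _ t).trans ?_
  exact (TopCat.Presheaf.germ_res_apply (F := T.X₃.obj) _ z _ t).symm

theorem nonempty_level_iso_push (hf : FinFib (Over.mk f)) (p q : ℕ) :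
    Nonempty (((secAt (Opens.grothendieckTopology S) ⊤).rightDerived q).obj (kSh f F p) ≅
      AddCommGrpCat.of (CohTop.H ((CohTop.pull (pow f p).hom).obj F) q)) := by
  let W := pow f p
  haveI := preservesFiniteColimits_push (finFib_pow f hf p)
  haveI : PreservesLimitsOfSize.{0, 0} (CohTop.push W.hom) :=
    (TopCat.Sheaf.pullbackPushforwardAdjunction AddCommGrpCat.{u} W.hom).rightAdjoint_preservesLimits
  haveI : PreservesFiniteLimits (CohTop.push W.hom) := PreservesLimitsOfSize.preservesFiniteLimits.{0, 0} _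
  haveI : (CohTop.push W.hom).PreservesInjectiveObjects := ⟨fun {I} hI => SiteBase.injective_push W.hom I⟩
  let e : CohTop.push W.hom ⋙ secAt (Opens.grothendieckTopology S) ⊤ ≅
      secAt (Opens.grothendieckTopology W.left) ⊤ :=
    NatIso.ofComponents (fun _ => Iso.refl _) (fun _ => (Category.comp_id _).trans (Category.id_comp _).symm)
  obtain ⟨e₂⟩ := LocCohLib.nonempty_rightDerived_precomp (CohTop.push W.hom)
    (secAt (Opens.grothendieckTopology S) ⊤) (gSh F W) q
  haveI := isIso_gPsi (F := F) W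
  exact ⟨e₂.symm ≪≫ (SiteBase.rightDerivedCongr e q).app _ ≪≫
    SpObjSS.rightDerivedSecAtIso (Opens.grothendieckTopology W.left) ⊤ q _ ≪≫
    AddEquiv.toAddCommGrpIso (SiteBase.huTerminalEquiv isTerminalTop _ q) ≪≫
    (Sheaf.functorH (Opens.grothendieckTopology W.left) q).mapIso (asIso (gPsi F W)).symm⟩

/-- Descent spectral sequence for a surjective closed map with finite separated fibres. -/
theorem exists_finFib_descentSS (hf : FinFib (Over.mk f)) (hsurj : Function.Surjective f) :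
    ∃ (E : CohomologicalSpectralSequence AddCommGrpCat.{u} 1)
      (a : SpSeq.Abutment E (fun n : ℤ =>
        if 0 ≤ n then AddCommGrpCat.of (CohTop.H F n.toNat) else AddCommGrpCat.of PUnit.{u + 1})),
      (∀ n, a.IsFinite n) ∧ SpSeq.IsBounded E ∧
      ∀ p q : ℤ, Nonempty ((E.page 1 le_rfl).X (p, q) ≅
        (if 0 ≤ p ∧ 0 ≤ q then
          AddCommGrpCat.of (CohTop.H ((CohTop.pull (pow f p.toNat).hom).obj F) q.toNat)
         else AddCommGrpCat.of PUnit.{u + 1})) := by
  haveI : PreservesFiniteLimits (secAt (Opens.grothendieckTopology S) ⊤) :=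
    inferInstanceAs (PreservesFiniteLimits (sheafToPresheaf (Opens.grothendieckTopology S) AddCommGrpCat.{u} ⋙
      (evaluation (Opens S)ᵒᵖ AddCommGrpCat.{u}).obj (op ⊤)))
  haveI : EnoughInjectives (CochainComplex (CohTop.Ab S) ℕ) := inferInstance
  refine exists_resolutionSS (secAt (Opens.grothendieckTopology S) ⊤) (kCx f F) F (kCx_exactAt f F hf hsurj)
    (nonempty_kCx_homology_zero f F hf hsurj).some (fun n => AddCommGrpCat.of (CohTop.H F n))
    (fun n => ⟨SpObjSS.rightDerivedSecAtIso _ ⊤ n F ≪≫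
      AddEquiv.toAddCommGrpIso (SiteBase.huTerminalEquiv isTerminalTop F n)⟩)
    _ (fun p q => ⟨(nonempty_level_iso_push f F hf p q).some ≪≫
      eqToIso (by rw [if_pos ⟨Int.natCast_nonneg p, Int.natCast_nonneg q⟩]; rfl)⟩)
    (fun p q h => ?_) _ (AddCommGrpCat.isZero_of_subsingleton _)
  rw [if_neg (by rintro ⟨h₁, h₂⟩; omega)]
  exact AddCommGrpCat.isZero_of_subsingleton _

end Groth.Agent.TopDescent

end
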