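import Groth.Agent.TopDescent.Fibre
import Groth.Agent.SiteBase.Rpush
import Mathlib.Algebra.Category.Grp.AB

/-!
# Cohomology of compact sets as colimits over neighbourhoods
-/

set_option autoImplicit false

universe u

open CategoryTheory CategoryTheory.Limits TopologicalSpace Opposite Topology Filter

noncomputable section

namespace Groth.Agent.TopDescent

variable {X : TopCat.{u}} (Z : Set X)

/-- The open neighbourhoods. -/
abbrev NbhdProp : ObjectProperty (Opens X)ᵒᵖ := fun U => Z ⊆ (U.unop : Set X)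

instance : IsFilteredOrEmpty (NbhdProp Z).FullSubcategory where
  cocone_objs a b := ⟨⟨op (a.obj.unop ⊓ b.obj.unop), fun z hz => ⟨a.property hz, b.property hz⟩⟩,
    ObjectProperty.homMk (homOfLE inf_le_left).op, ObjectProperty.homMk (homOfLE inf_le_right).op, trivial⟩
  cocone_maps a b i j := ⟨b, 𝟙 b, by
    congr 1
    exact ObjectProperty.hom_ext _ (Quiver.Hom.unop_inj (Subsingleton.elim _ _))⟩

instance : IsFiltered (NbhdProp Z).FullSubcategory where
  nonempty := ⟨⟨op ⊤, fun _ _ => trivial⟩⟩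

/-- Sections on neighbourhoods. -/
abbrev nbhdSec : CohTop.Ab X ⥤ ((NbhdProp Z).FullSubcategory ⥤ AddCommGrpCat.{u}) :=
  sheafToPresheaf (Opens.grothendieckTopology X) AddCommGrpCat.{u} ⋙
    (Functor.whiskeringLeft _ _ AddCommGrpCat.{u}).obj (NbhdProp Z).ι

/-- Germs along the set. -/
def nbhdCocone (G : CohTop.Ab X) : Cocone ((nbhdSec Z).obj G) where
  pt := (gFunctor G).obj (op (subOver Z))
  ι :=
    { app := fun U => AddCommGrpCat.ofHom (X := G.obj.obj U.obj)
        (Y := (gGroup G (subOver Z) : Type u))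
        { toFun := fun s => ⟨fun w x => gm G x.1
            (show x.1 ∈ U.obj.unop from x.2 ▸ U.property w.2) s,
            fun w => ⟨U.obj.unop, U.property w.2, s, Eventually.of_forall fun _ _ _ _ => rfl⟩⟩
          map_zero' := Subtype.ext (funext fun w => funext fun x => map_zero _)
          map_add' := fun _ _ => Subtype.ext (funext fun w => funext fun x => map_add _ _ _) }
      naturality := fun U U' i => by
        ext s
        refine Subtype.ext (funext fun w => funext fun x => ?_)
        exact TopCat.Presheaf.germ_res_apply (F := G.obj) i.hom.unop x.1 _ s }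

/-- Germs along the set. -/
def toNbhd : nbhdSec Z ⋙ colim ⟶ gBifunctor X ⋙ (evaluation (Over X)ᵒᵖ AddCommGrpCat.{u}).obj (op (subOver Z)) where
  app G := colimit.desc _ (nbhdCocone Z G)
  naturality G G' φ := by
    refine colimit.hom_ext fun U => ?_
    refine (colimit.ι_map_assoc _ U _).trans ?_
    refine ((congrArg (_ ≫ ·) (colimit.ι_desc (nbhdCocone Z G') U)).trans ?_)
    refine Eq.trans ?_ (colimit.ι_desc_assoc (nbhdCocone Z G) U _).symm
    ext s
    refine Subtype.ext (funext fun w => funext fun x => ?_)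
    exact (TopCat.Presheaf.stalkFunctor_map_germ_apply U.obj.unop x.1 _ φ.hom s).symm

theorem toNbhd_ι (G : CohTop.Ab X) (U : (NbhdProp Z).FullSubcategory) (s : G.obj.obj U.obj) (w : (subOver Z).left)
    (x : X) (e : (subOver Z).hom w = x) :
    (((toNbhd Z).app G (colimit.ι ((nbhdSec Z).obj G) U s)) : gGroup G (subOver Z)).1 w ⟨x, e⟩ =
      gm G x (show x ∈ U.obj.unop from e ▸ U.property w.2) s := by
  have h : colimit.ι ((nbhdSec Z).obj G) U ≫ (toNbhd Z).app G = (nbhdCocone Z G).ι.app U :=
    colimit.ι_desc (nbhdCocone Z G) U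
  exact congrFun (congrFun (congrArg Subtype.val (ConcreteCategory.congr_hom h s)) w) ⟨x, e⟩

theorem isIso_toNbhd (hZ : CompSep (subOver Z)) (G : CohTop.Ab X) : IsIso ((toNbhd Z).app G) := by
  rw [ConcreteCategory.isIso_iff_bijective]
  refine ⟨(injective_iff_map_eq_zero ((toNbhd Z).app G).hom).2 fun g hg => ?_, fun σ => ?_⟩
  · obtain ⟨U, s, rfl⟩ := Concrete.colimit_exists_rep _ g
    obtain ⟨V, hVU, hZV, hV⟩ := exists_res_eq_zero (F := G) (U := U.obj.unop) s Z fun x hx =>
      ⟨U.property hx, (toNbhd_ι Z G U s ⟨x, hx⟩ x rfl).symm.trans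
        (congrFun (congrFun (congrArg Subtype.val hg) ⟨x, hx⟩) ⟨x, rfl⟩)⟩
    let i : U ⟶ (⟨op V, hZV⟩ : (NbhdProp Z).FullSubcategory) := ObjectProperty.homMk (homOfLE hVU).op
    refine (ConcreteCategory.congr_hom (colimit.w ((nbhdSec Z).obj G) i) s).symm.trans ?_
    exact (congrArg (colimit.ι ((nbhdSec Z).obj G) _) hV).trans (map_zero _)
  · obtain ⟨V, s, hV, hs⟩ := hZ.exists_section σ
    refine ⟨colimit.ι ((nbhdSec Z).obj G) ⟨op V, fun x hx => hV ⟨x, hx⟩⟩ s,
      Subtype.ext (funext fun w => funext fun ⟨x, e⟩ => ?_)⟩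
    exact (toNbhd_ι Z G ⟨op V, fun x hx => hV ⟨x, hx⟩⟩ s w x e).trans (hs w x e).symm

/-- Cohomology of a compact set with separated points is the colimit over its neighbourhoods. -/
theorem nonempty_colimit_iso_H (hZ : CompSep (subOver Z)) (F : CohTop.Ab X) (p : ℕ) :
    Nonempty ((colimit ((NbhdProp Z).ι ⋙
        (Sheaf.cohomologyPresheafFunctor (Opens.grothendieckTopology X) p).obj F) : AddCommGrpCat.{u}) ≅
      AddCommGrpCat.of (CohTop.H ((CohTop.pull (subOver Z).hom).obj F) p)) := by
  haveI : ∀ G, IsIso ((toNbhd Z).app G) := isIso_toNbhd Z hZ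
  haveI : IsIso (toNbhd Z) := NatIso.isIso_of_isIso_app _
  haveI : PreservesColimitsOfSize.{0, 0} (colim : ((NbhdProp Z).FullSubcategory ⥤ AddCommGrpCat.{u}) ⥤ _) :=
    colimConstAdj.leftAdjoint_preservesColimits
  haveI : PreservesFiniteColimits (colim : ((NbhdProp Z).FullSubcategory ⥤ AddCommGrpCat.{u}) ⥤ _) :=
    PreservesColimitsOfSize.preservesFiniteColimits.{0, 0} _
  haveI : PreservesFiniteLimits (colim : ((NbhdProp Z).FullSubcategory ⥤ AddCommGrpCat.{u}) ⥤ _) :=
    HasExactColimitsOfShape.preservesFiniteLimits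
  haveI : (colim : ((NbhdProp Z).FullSubcategory ⥤ AddCommGrpCat.{u}) ⥤ _).Additive :=
    Functor.additive_of_preserves_binary_products _
  haveI : (nbhdSec Z).Additive := inferInstance
  haveI : (nbhdSec Z ⋙ colim).Additive := inferInstance
  obtain ⟨e⟩ := nonempty_gB_rightDerived_iso_compSep (subOver Z) hZ F p
  let P := (Functor.whiskeringLeft (NbhdProp Z).FullSubcategory (Opens X)ᵒᵖ AddCommGrpCat.{u}).obj (NbhdProp Z).ι
  haveI : PreservesLimitsOfSize.{0, 0} P := inferInstance
  haveI : PreservesFiniteLimits P := PreservesLimitsOfSize.preservesFiniteLimits.{0, 0} _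
  haveI : PreservesFiniteColimits P := inferInstance
  exact ⟨colim.mapIso (((SiteBase.rightDerivedCompIso (sheafToPresheaf (Opens.grothendieckTopology X) AddCommGrpCat.{u})
      P p).app F ≪≫ P.mapIso ((SiteBase.rightDerivedIsoCohomology (J := Opens.grothendieckTopology X) p).app F)).symm) ≪≫
    ((SiteBase.rightDerivedCompIso (nbhdSec Z) colim p).app F).symm ≪≫
    (SiteBase.rightDerivedCongr (asIso (toNbhd Z)) p).app F ≪≫ e⟩

end Groth.Agent.TopDescent

end
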