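import Groth.Agent.TopDescent.FiniteFibreSS
import Groth.Agent.TopDescent.SigmaCoh
import Groth.Agent.TopDescent.HFunctor

/-!
# Locally finite closed covers
-/

set_option autoImplicit false

universe u

open CategoryTheory CategoryTheory.Limits TopologicalSpace Opposite Topology Filter

noncomputable section

namespace Groth.Agent.TopDescent

open EtDescSplit (pow)

variable {S : TopCat.{u}} {I : Type u} (U : I → Set S)

/-- The disjoint union of the pieces. -/
abbrev coverSrc : TopCat.{u} := TopCat.of (Σ i, (U i : Set S))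

/-- The map from the disjoint union. -/
def coverMap : coverSrc U ⟶ S :=
  TopCat.ofHom ⟨fun z => z.2.1, continuous_sigma fun _ => continuous_subtype_val⟩

theorem coverMap_apply (z : coverSrc U) : coverMap U z = z.2.1 := rfl

theorem finFib_coverMap (hU : ∀ i, IsClosed (U i)) (hlf : LocallyFinite U) : FinFib (Over.mk (coverMap U)) where
  finite y := by
    refine Set.Finite.of_finite_image (f := Sigma.fst) ((hlf.point_finite y).subset ?_) ?_
    · rintro _ ⟨z, hz, rfl⟩
      exact (show z.2.1 = y from hz) ▸ z.2.2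
    · rintro ⟨i, a⟩ ha ⟨i', b⟩ hb (rfl : i = i')
      exact congrArg (Sigma.mk i) (Subtype.ext ((show a.1 = y from ha).trans (show b.1 = y from hb).symm))
  sep w w' he hne := by
    have h : w.1 ≠ w'.1 := by
      obtain ⟨i, a⟩ := w
      obtain ⟨i', b⟩ := w'
      rintro (rfl : i = i')
      exact hne (congrArg (Sigma.mk i) (Subtype.ext he))
    refine ⟨Set.range (Sigma.mk w.1), Set.range (Sigma.mk w'.1), isOpen_range_sigmaMk, isOpen_range_sigmaMk,
      ⟨w.2, rfl⟩, ⟨w'.2, rfl⟩, Set.disjoint_left.2 ?_⟩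
    rintro _ ⟨a, rfl⟩ ⟨b, hb⟩
    exact h (congrArg Sigma.fst hb).symm
  closed C hC := by
    let emb : ∀ i : I, ↥(U i) → coverSrc U := fun i a => ⟨i, a⟩
    have hC' : coverMap U '' C = ⋃ i, Subtype.val '' (emb i ⁻¹' C) := by
      ext y
      simp only [Set.mem_image, Set.mem_iUnion, Set.mem_preimage]
      constructor
      · rintro ⟨⟨i, a⟩, ha, rfl⟩
        exact ⟨i, a, ha, rfl⟩
      · rintro ⟨i, a, ha, rfl⟩
        exact ⟨⟨i, a⟩, ha, rfl⟩
    show IsClosed (coverMap U '' C)
    rw [hC']
    refine LocallyFinite.isClosed_iUnion (hlf.subset fun i => ?_) fun i =>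
      (hU i).isClosedEmbedding_subtypeVal.isClosedMap _ (hC.preimage (continuous_sigmaMk (σ := fun i => (U i : Set S)) (i := i)))
    rintro _ ⟨a, -, rfl⟩
    exact a.2

theorem surjective_coverMap (hcov : ⋃ i, U i = Set.univ) : Function.Surjective (coverMap U) := fun y => by
  obtain ⟨i, hi⟩ := Set.mem_iUnion.1 (hcov.ge (Set.mem_univ y))
  exact ⟨⟨i, y, hi⟩, rfl⟩

variable {n : ℕ}

/-- An intersection of pieces. -/
abbrev cap (s : Fin (n + 1) → I) : TopCat.{u} := TopCat.of (⋂ k, U (s k) : Set S)

/-- Its inclusion. -/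
abbrev capι (s : Fin (n + 1) → I) : cap U s ⟶ S :=
  TopCat.ofHom ⟨((↑) : (⋂ k, U (s k) : Set S) → S), continuous_subtype_val⟩

/-- Its map to the fibre power. -/
def capMap (s : Fin (n + 1) → I) : cap U s ⟶ (pow (coverMap U) n).left :=
  WidePullback.lift (capι U s)
    (fun k => TopCat.ofHom ⟨fun z => (⟨s k, z.1, Set.mem_iInter.1 z.2 k⟩ : coverSrc U),
      continuous_sigmaMk.comp (continuous_subtype_val.subtype_mk _)⟩)
    (fun _ => rfl)

theorem capMap_π (s : Fin (n + 1) → I) (k : Fin (n + 1)) (z : cap U s) :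
    WidePullback.π (fun _ : Fin (n + 1) => coverMap U) k (capMap U s z) =
      (⟨s k, z.1, Set.mem_iInter.1 z.2 k⟩ : coverSrc U) := by
  have e : capMap U s ≫ WidePullback.π (fun _ : Fin (n + 1) => coverMap U) k =
      TopCat.ofHom ⟨fun z => (⟨s k, z.1, Set.mem_iInter.1 z.2 k⟩ : coverSrc U),
        continuous_sigmaMk.comp (continuous_subtype_val.subtype_mk _)⟩ := WidePullback.lift_π _ _ _ _ k
  exact ConcreteCategory.congr_hom e z

theorem capMap_hom (s : Fin (n + 1) → I) : capMap U s ≫ (pow (coverMap U) n).hom = capι U s :=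
  WidePullback.lift_base _ _ _ _

theorem capMap_disjoint (s s' : Fin (n + 1) → I) (z : cap U s) (z' : cap U s')
    (h : capMap U s z = capMap U s' z') : s = s' := funext fun k => by
  have h' := congrArg (WidePullback.π (fun _ : Fin (n + 1) => coverMap U) k) h
  rw [capMap_π, capMap_π] at h'
  exact congrArg Sigma.fst h'

theorem range_capMap (s : Fin (n + 1) → I) :
    Set.range (capMap U s) =
      ⋂ k, (fun w => WidePullback.π (fun _ : Fin (n + 1) => coverMap U) k w) ⁻¹' Set.range (Sigma.mk (s k)) := by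
  ext w
  simp only [Set.mem_range, Set.mem_iInter, Set.mem_preimage]
  constructor
  · rintro ⟨z, rfl⟩ k
    exact ⟨⟨z.1, Set.mem_iInter.1 z.2 k⟩, (capMap_π U s k z).symm⟩
  · intro h
    choose a ha using h
    have hb : ∀ k, (a k).1 = (pow (coverMap U) n).hom w := fun k =>
      ((coverMap_apply U ⟨s k, a k⟩).symm.trans (congrArg (coverMap U) (ha k))).trans
        (ConcreteCategory.congr_hom (WidePullback.π_arrow (fun _ : Fin (n + 1) => coverMap U) k) w)
    refine ⟨⟨(pow (coverMap U) n).hom w, Set.mem_iInter.2 fun k => hb k ▸ (a k).2⟩, wp_ext _ _ _ fun k => ?_⟩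
    rw [capMap_π]
    refine Eq.trans ?_ (ha k)
    exact congrArg (Sigma.mk (s k)) (Subtype.ext (hb k).symm)

theorem isOpenEmbedding_capMap (s : Fin (n + 1) → I) : IsOpenEmbedding (capMap U s) where
  toIsEmbedding := IsEmbedding.of_comp (capMap U s).hom.continuous (pow (coverMap U) n).hom.hom.continuous
    (by
      have e : (pow (coverMap U) n).hom ∘ capMap U s = capι U s :=
        funext fun z => ConcreteCategory.congr_hom (capMap_hom U s) z
      rw [e]
      exact IsEmbedding.subtypeVal)
  isOpen_range := by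
    rw [range_capMap]
    exact isOpen_iInter_of_finite fun k => isOpen_range_sigmaMk.preimage
      (WidePullback.π (fun _ : Fin (n + 1) => coverMap U) k).hom.continuous

theorem capMap_cover (w : (pow (coverMap U) n).left) : ∃ s z, capMap U s z = w :=
  ⟨fun k => (WidePullback.π (fun _ : Fin (n + 1) => coverMap U) k w).1, by
    have h : w ∈ Set.range (capMap U (fun k => (WidePullback.π (fun _ : Fin (n + 1) => coverMap U) k w).1)) := by
      rw [range_capMap]
      exact Set.mem_iInter.2 fun k => ⟨(WidePullback.π (fun _ : Fin (n + 1) => coverMap U) k w).2, rfl⟩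
    exact h⟩

variable (F : CohTop.Ab S)

/-- Cohomology of a fibre power of the disjoint union. -/
theorem nonempty_H_pow_iso_pi (p q : ℕ) :
    Nonempty (AddCommGrpCat.of (CohTop.H ((CohTop.pull (pow (coverMap U) p).hom).obj F) q) ≅
      AddCommGrpCat.of (∀ s : Fin (p + 1) → I, CohTop.H ((CohTop.pull (capι U s)).obj F) q)) := by
  obtain ⟨e⟩ := nonempty_H_iso_pi (fun s : Fin (p + 1) → I => cap U s) (fun s => capMap U s)
    (isOpenEmbedding_capMap U) (fun s s' z z' h => capMap_disjoint U s s' z z' h) (capMap_cover U)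
    ((CohTop.pull (pow (coverMap U) p).hom).obj F) q
  exact ⟨e ≪≫ AddEquiv.toAddCommGrpIso (AddEquiv.piCongrRight fun s =>
    ((Sheaf.functorH (Opens.grothendieckTopology (cap U s)) q).mapIso
      ((θ (capMap U s) (pow (coverMap U) p).hom (capι U s) (capMap_hom U s)).app F)).addCommGroupIsoToAddEquiv)⟩

end Groth.Agent.TopDescent

end
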