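import Groth.Agent.TopDescent.TotalRows
import Groth.Agent.TopDescent.AcyclicComp
import Groth.Agent.EtDescSplit.PrependPage
import Groth.Agent.S8355

/-!
# The descent spectral sequence of a proper surjection
-/

set_option autoImplicit false

universe v w u

open CategoryTheory CategoryTheory.Limits TopologicalSpace Opposite Topology Filter

noncomputable section

namespace Groth.Agent.TopDescent

open EtDescSplit (pow)
open SpObjSS (secAt hZero)
open scoped ZeroObject

theorem isZero_of_abutment {C : Type v} [Category.{w} C] [Abelian C] {r₀ : ℤ}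
    {E : CohomologicalSpectralSequence C r₀} {H : ℤ → C} (a : SpSeq.Abutment E H) (n : ℤ) (ha : a.IsFinite n)
    (h : ∀ p : ℤ, IsZero ((E.page r₀ le_rfl).X (p, n - p))) : IsZero (H n) := by
  have hgr : ∀ p, a.fil n p ≤ a.fil n (p + 1) := fun p => by
    have hz := (Groth.Agent.S8355.result E r₀ le_rfl (p, n - p) (h p)).2 H a
    have key : ∀ m (_ : IsZero (SpSeq.grPiece (a.fil m) (a.anti m) p)), a.fil m p ≤ a.fil m (p + 1) := by
      intro m hm
      let j := Subobject.ofLE (a.fil m (p + 1)) (a.fil m p) (a.anti m (Int.le_add_one le_rfl))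
      haveI : Epi j := Preadditive.epi_of_cokernel_zero (hm.eq_of_tgt _ _)
      haveI : IsIso j := isIso_of_mono_of_epi j
      refine Subobject.le_of_comm (inv j) ?_
      rw [IsIso.inv_comp_eq]
      exact (Subobject.ofLE_arrow _).symm
    have e : (p, n - p).1 + (p, n - p).2 = n := by simp
    exact e ▸ key _ hz
  have hm : ∀ (b : ℤ) (k : ℕ), a.fil n b ≤ a.fil n (b + k) := fun b k => by
    induction k with
    | zero => simp
    | succ k ih => exact ih.trans ((hgr _).trans_eq (by push_cast; rw [add_assoc]))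
  obtain ⟨⟨b, hb⟩, c, hc⟩ := ha
  have htb : (⊤ : Subobject (H n)) ≤ ⊥ := by
    refine hb.symm.trans_le (le_trans ?_ hc.le)
    rcases le_total b c with hbc | hbc
    · obtain ⟨k, rfl⟩ := Int.le.dest hbc
      exact hm b k
    · exact a.anti n hbc
  rw [IsZero.iff_id_eq_zero]
  have hw := Subobject.ofLE_arrow htb
  rw [Subobject.bot_arrow, comp_zero] at hw
  exact (cancel_epi (⊤ : Subobject (H n)).arrow).1 ((Category.comp_id _).trans (hw.symm.trans comp_zero.symm))

variable {S X : TopCat.{u}}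

theorem isRightAcyclic_secTop_of_flasque {Z : TopCat.{u}} (G : CohTop.Ab Z) [TopCat.Sheaf.IsFlasque G] :
    TriCat.IsRightAcyclic (secAt (Opens.grothendieckTopology Z) ⊤) G := fun i hi => by
  obtain ⟨j, rfl⟩ := Nat.exists_eq_succ_of_ne_zero hi.ne'
  refine IsZero.of_iso ?_ (SpObjSS.rightDerivedSecAtIso _ ⊤ (j + 1) G)
  haveI : Subsingleton (CohTop.H G (j + 1)) := SiteBase.subsingleton_H_of_isFlasque G j
  have : Subsingleton (CohSite.HU G (j + 1) (⊤ : Opens Z)) :=
    (SiteBase.huTerminalEquiv isTerminalTop G (j + 1)).toEquiv.subsingleton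
  exact AddCommGrpCat.isZero_of_subsingleton _

instance (Z : TopCat.{u}) : PreservesFiniteLimits (secAt (Opens.grothendieckTopology Z) ⊤) :=
  inferInstanceAs (PreservesFiniteLimits (sheafToPresheaf (Opens.grothendieckTopology Z) AddCommGrpCat.{u} ⋙
    (evaluation (Opens Z)ᵒᵖ AddCommGrpCat.{u}).obj (op ⊤)))

instance (y : S) : PreservesFiniteLimits (stk y) := inferInstanceAs (PreservesFiniteLimits
  (TopCat.Sheaf.forget AddCommGrpCat.{u} S ⋙ TopCat.Presheaf.stalkFunctor AddCommGrpCat.{u} y))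

instance (y : S) : PreservesFiniteColimits (stk y) := by
  haveI : ∀ U : Opens S, Decidable (y ∈ U) := fun U => Classical.dec _
  haveI : PreservesColimitsOfSize.{0, 0} (stk y) :=
    (stalkSkyscraperSheafAdjunction (C := AddCommGrpCat.{u}) y).leftAdjoint_preservesColimits
  exact PreservesColimitsOfSize.preservesFiniteColimits.{0, 0} _

instance (y : S) : PreservesFiniteLimits
    ((Functor.whiskeringRight SimplexCategory (CohTop.Ab S) AddCommGrpCat.{u}).obj (stk y)) :=
  ⟨fun _ _ _ => inferInstance⟩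

instance (y : S) : PreservesFiniteColimits
    ((Functor.whiskeringRight SimplexCategory (CohTop.Ab S) AddCommGrpCat.{u}).obj (stk y)) :=
  ⟨fun _ _ _ => inferInstance⟩

variable (f : X ⟶ S)

/-- Cohomology of one space of the total site. -/
theorem nonempty_rightDerived_secT (i : TIdx S) (G : Sheaf (totTop f) AddCommGrpCat.{u}) (q : ℕ) :
    Nonempty (((rF f i ⋙ secAt (Opens.grothendieckTopology (tBase f i).left) ⊤).rightDerived q).obj G ≅
      AddCommGrpCat.of (CohTop.H ((rF f i).obj G) q)) := by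
  obtain ⟨e⟩ := nonempty_rightDerived_precomp_of_acyclic (rF f i)
    (secAt (Opens.grothendieckTopology (tBase f i).left) ⊤)
    (fun I hI => @isRightAcyclic_secTop_of_flasque _ _ (isFlasque_rF I i)) q G
  exact ⟨e ≪≫ SpObjSS.rightDerivedSecAtIso _ ⊤ q _ ≪≫
    AddEquiv.toAddCommGrpIso (SiteBase.huTerminalEquiv isTerminalTop _ q)⟩

instance (n : SimplexCategory) : PreservesFiniteLimits (cechSys f ⋙ (evaluation SimplexCategory (CohTop.Ab S)).obj n) :=
  haveI : PreservesLimitsOfSize.{0, 0} (CohTop.push (tBase f (TIdx.pw n.len)).hom) :=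
    (TopCat.Sheaf.pullbackPushforwardAdjunction AddCommGrpCat.{u} (tBase f (TIdx.pw n.len)).hom).rightAdjoint_preservesLimits
  haveI : PreservesFiniteLimits (CohTop.push (tBase f (TIdx.pw n.len)).hom) :=
    PreservesLimitsOfSize.preservesFiniteLimits.{0, 0} _
  preservesFiniteLimits_of_natIso
    (NatIso.ofComponents (fun G => Iso.refl _) (fun φ => (Category.comp_id _).trans (Category.id_comp _).symm) :
      rF f (TIdx.pw n.len) ⋙ CohTop.push (tBase f (TIdx.pw n.len)).hom ≅
        cechSys f ⋙ (evaluation SimplexCategory (CohTop.Ab S)).obj n)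

instance : PreservesFiniteLimits (cechSys f) where
  preservesFiniteLimits J _ _ := preservesLimitsOfShape_of_evaluation _ J fun n => inferInstance

instance : PreservesFiniteLimits (cechK f) := comp_preservesFiniteLimits _ _

variable {f} (F : CohTop.Ab S)

theorem nonempty_stalk_rightDerived_cechSys (hf : PropSep f) (y : S) (q : ℕ) :
    Nonempty (((cechSys f).rightDerived q).obj (gT f F) ⋙ stk y ≅
      fibCos f y ⋙ ((sheafToPresheaf (totTop f) AddCommGrpCat.{u}).rightDerived q).obj (gT f F)) := by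
  haveI := isIso_rightDerived_alphaSys f y F hf q
  exact ⟨((SiteBase.rightDerivedCompIso (cechSys f)
      ((Functor.whiskeringRight SimplexCategory (CohTop.Ab S) AddCommGrpCat.{u}).obj (stk y)) q).app (gT f F)).symm ≪≫
    asIso ((NatTrans.rightDerived (alphaSys f y) q).app (gT f F)) ≪≫
    (SiteBase.rightDerivedCompIso (sheafToPresheaf (totTop f) AddCommGrpCat.{u})
      ((Functor.whiskeringLeft SimplexCategory (Tot f)ᵒᵖ AddCommGrpCat.{u}).obj (fibCos f y)) q).app (gT f F)⟩

theorem isZero_rightDerived_pt (y : S) (q : ℕ) :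
    IsZero ((((sheafToPresheaf (totTop f) AddCommGrpCat.{u}).rightDerived (q + 1)).obj (gT f F)).obj
      (op (mkT f (TIdx.pt y) ⊤))) := by
  let ev := (evaluation (Tot f)ᵒᵖ AddCommGrpCat.{u}).obj (op (mkT f (TIdx.pt y) ⊤))
  let e₁ : sheafToPresheaf (totTop f) AddCommGrpCat.{u} ⋙ ev ≅
      rF f (TIdx.pt y) ⋙ secAt (Opens.grothendieckTopology (tBase f (TIdx.pt y)).left) ⊤ :=
    NatIso.ofComponents (fun _ => Iso.refl _) (fun _ => (Category.comp_id _).trans (Category.id_comp _).symm)
  obtain ⟨e⟩ := nonempty_rightDerived_secT f (TIdx.pt y) (gT f F) (q + 1)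
  haveI : CompactSpace (tBase f (TIdx.pt y)).left := inferInstanceAs (CompactSpace PUnit.{u + 1})
  haveI : T2Space (tBase f (TIdx.pt y)).left := inferInstanceAs (T2Space PUnit.{u + 1})
  haveI : TotallyDisconnectedSpace (tBase f (TIdx.pt y)).left := inferInstanceAs (TotallyDisconnectedSpace PUnit.{u + 1})
  haveI : Subsingleton (CohTop.H ((rF f (TIdx.pt y)).obj (gT f F)) (q + 1)) := Groth.Agent.S0471.result _ q
  exact IsZero.of_iso (AddCommGrpCat.isZero_of_subsingleton _)
    (((SiteBase.rightDerivedCompIso (sheafToPresheaf (totTop f) AddCommGrpCat.{u}) ev (q + 1)).app (gT f F)).symm ≪≫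
      (SiteBase.rightDerivedCongr e₁ (q + 1)).app (gT f F) ≪≫ e)

theorem exactAt_rightDerived_cechK (hf : PropSep f) (hsurj : Function.Surjective f) (q n : ℕ) :
    (((cechK f).rightDerived q).obj (gT f F)).ExactAt (n + 1) := by
  refine HomologicalComplex.ExactAt.of_iso ?_ ((SiteBase.rightDerivedCompIso (cechSys f) (accS S) q).app (gT f F)).symm
  refine exactAt_accS_of_stalks _ n fun y g hg => ?_
  obtain ⟨a₀, ha⟩ := hsurj y
  obtain ⟨e⟩ := nonempty_stalk_rightDerived_cechSys F hf y q
  obtain ⟨z, hz⟩ := exists_primitive_fibCos ha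
    (((sheafToPresheaf (totTop f) AddCommGrpCat.{u}).rightDerived q).obj (gT f F)) (e.hom.app ⟨n + 1⟩ g)
    ((cdd_iso e g).trans ((congrArg _ hg).trans (map_zero _)))
  refine ⟨e.inv.app ⟨n⟩ z, ?_⟩
  refine (cdd_iso e.symm z).trans ((congrArg (e.inv.app ⟨n + 1⟩) hz).trans ?_)
  exact ConcreteCategory.congr_hom (congrArg (fun m => m.app ⟨n + 1⟩) e.hom_inv_id) g

theorem exactAt_rightDerived_cechK_zero (hf : PropSep f) (hsurj : Function.Surjective f) (q : ℕ) :
    (((cechK f).rightDerived (q + 1)).obj (gT f F)).ExactAt 0 := by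
  refine HomologicalComplex.ExactAt.of_iso ?_
    ((SiteBase.rightDerivedCompIso (cechSys f) (accS S) (q + 1)).app (gT f F)).symm
  refine exactAt_accS_zero_of_stalks _ fun y g hg => ?_
  obtain ⟨a₀, ha⟩ := hsurj y
  obtain ⟨e⟩ := nonempty_stalk_rightDerived_cechSys F hf y (q + 1)
  have h := eq_zero_fibCos ha (((sheafToPresheaf (totTop f) AddCommGrpCat.{u}).rightDerived (q + 1)).obj (gT f F))
    (isZero_rightDerived_pt F y q) (e.hom.app ⟨0⟩ g) ((cdd_iso e g).trans ((congrArg _ hg).trans (map_zero _)))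
  exact ((ConcreteCategory.congr_hom (congrArg (fun m => m.app ⟨0⟩) e.hom_inv_id) g).symm.trans
    ((congrArg (e.inv.app ⟨0⟩) h).trans (map_zero _)))

variable (f) in
/-- The descended sheaf. -/
abbrev descF : Sheaf (totTop f) AddCommGrpCat.{u} ⥤ CohTop.Ab S :=
  cechK f ⋙ hZero (𝟭 (CochainComplex (CohTop.Ab S) ℕ))

theorem isRightAcyclic_descF (hf : PropSep f) (hsurj : Function.Surjective f) :
    TriCat.IsRightAcyclic (descF f) (gT f F) := by
  let ChA := CochainComplex (CohTop.Ab S) ℕ
  haveI : EnoughInjectives ChA := inferInstance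
  have hid : ∀ T : ShortComplex ChA, T.ShortExact → (T.map (𝟭 ChA)).ShortExact := fun T hT => hT
  have hI : ∀ I : ChA, Injective I → ∀ p : ℕ, ((𝟭 ChA).obj I).ExactAt (p + 1) := fun I hI p =>
    HyperLib.exactAt_of_injective I p
  have := SpObjSS.preservesFiniteLimits_hZero (𝟭 ChA) hid
  obtain ⟨E, a, ha, -, hE⟩ := SpObjSS.exists_grothendieck_spectralSequence' (cechK f) (hZero (𝟭 ChA))
    (fun Q hQ i hi => by
      obtain ⟨j, rfl⟩ := Nat.exists_eq_succ_of_ne_zero hi.ne'
      exact IsZero.of_iso ((HomologicalComplex.exactAt_iff_isZero_homology _ _).1 (exactAt_cechK_injective f Q j))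
        (SpObjSS.nonempty_rightDerived_hZero_iso (𝟭 ChA) hid hI (j + 1) _).some) (gT f F)
    (fun n => ((descF f).rightDerived n).obj (gT f F)) (fun n => ⟨Iso.refl _⟩)
    (fun p q => (((cechK f).rightDerived q).obj (gT f F)).homology p)
    (fun p q => SpObjSS.nonempty_rightDerived_hZero_iso (𝟭 ChA) hid hI p _)
    ((hZero (𝟭 ChA)).obj 0) ((hZero (𝟭 ChA)).map_isZero (isZero_zero _))
  intro i hi
  have h := isZero_of_abutment a (i : ℤ) (ha _) fun p => by
    refine IsZero.of_iso ?_ (hE p ((i : ℤ) - p)).some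
    by_cases hp : 0 ≤ p ∧ 0 ≤ (i : ℤ) - p
    · rw [if_pos hp]
      rw [← HomologicalComplex.exactAt_iff_isZero_homology]
      rcases Nat.eq_zero_or_pos p.toNat with h0 | h0
      · rw [h0, show ((i : ℤ) - p).toNat = (i - 1) + 1 by omega]
        exact exactAt_rightDerived_cechK_zero F hf hsurj _
      · rw [show p.toNat = (p.toNat - 1) + 1 by omega]
        exact exactAt_rightDerived_cechK F hf hsurj _ _
    · rw [if_neg hp]
      exact (hZero (𝟭 ChA)).map_isZero (isZero_zero _)
  rw [if_pos (Int.natCast_nonneg i), Int.toNat_natCast] at h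
  exact h

/-- Descent spectral sequence of a proper surjection with separated fibres. -/
theorem exists_proper_descentSS (hf : PropSep f) (hsurj : Function.Surjective f) :
    ∃ (E : CohomologicalSpectralSequence AddCommGrpCat.{u} 1)
      (a : SpSeq.Abutment E (fun n : ℤ =>
        if 0 ≤ n then AddCommGrpCat.of (CohTop.H F n.toNat) else AddCommGrpCat.of PUnit.{u + 1})),
      (∀ n, a.IsFinite n) ∧ SpSeq.IsBounded E ∧
      ∀ p q : ℤ, Nonempty ((E.page 1 le_rfl).X (p, q) ≅
        (if 0 ≤ p ∧ 0 ≤ q then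
          AddCommGrpCat.of (CohTop.H ((CohTop.pull (pow f p.toNat).hom).obj F) q.toNat)
         else AddCommGrpCat.of PUnit.{u + 1})) := by
  let Ch := CochainComplex AddCommGrpCat.{u} ℕ
  let ChA := CochainComplex (CohTop.Ab S) ℕ
  haveI : EnoughInjectives ChA := inferInstance
  have hid : ∀ T : ShortComplex Ch, T.ShortExact → (T.map (𝟭 Ch)).ShortExact := fun T hT => hT
  have hidA : ∀ T : ShortComplex ChA, T.ShortExact → (T.map (𝟭 ChA)).ShortExact := fun T hT => hT
  have hI : ∀ I : Ch, Injective I → ∀ p : ℕ, ((𝟭 Ch).obj I).ExactAt (p + 1) := fun I hI p =>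
    HyperLib.exactAt_of_injective I p
  have := SpObjSS.preservesFiniteLimits_hZero (𝟭 Ch) hid
  have := SpObjSS.preservesFiniteLimits_hZero (𝟭 ChA) hidA
  let Γ := secAt (Opens.grothendieckTopology S) ⊤
  let T := cechK f ⋙ Γ.mapHomologicalComplex (ComplexShape.up ℕ)
  haveI : PreservesFiniteLimits (descF f) := comp_preservesFiniteLimits _ _
  obtain ⟨eA⟩ := nonempty_cechK_gT_homology_zero F hf hsurj
  let eN : T ⋙ hZero (𝟭 Ch) ≅ descF f ⋙ Γ :=
    Functor.associator _ _ _ ≪≫ Functor.isoWhiskerLeft (cechK f) (hZeroMapIso Γ) ≪≫ (Functor.associator _ _ _).symm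
  obtain ⟨E, a, ha, -, hE⟩ := SpObjSS.exists_grothendieck_spectralSequence' T (hZero (𝟭 Ch))
    (fun Q hQ i hi => by
      obtain ⟨j, rfl⟩ := Nat.exists_eq_succ_of_ne_zero hi.ne'
      refine IsZero.of_iso ((HomologicalComplex.exactAt_iff_isZero_homology _ _).1 ?_)
        (SpObjSS.nonempty_rightDerived_hZero_iso (𝟭 Ch) hid hI (j + 1) _).some
      show ((Γ.mapHomologicalComplex (ComplexShape.up ℕ)).obj ((cechK f).obj Q)).ExactAt (j + 1)
      rw [HomologicalComplex.exactAt_iff' _ j (j + 1) (j + 1 + 1) (by simp) (by simp), ShortComplex.ab_exact_iff]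
      intro x hx
      obtain ⟨z, hz⟩ := exists_primitive_injective Q (⊤ : Opens S) x ((cechK_d f Q (j + 1) ⊤ x).symm.trans hx)
      exact ⟨z, (cechK_d f Q j ⊤ z).trans hz⟩) (gT f F)
    (fun n => AddCommGrpCat.of (CohTop.H F n))
    (fun n => by
      obtain ⟨e⟩ := nonempty_rightDerived_comp_of_acyclic (descF f) Γ
        (fun I hI => @isRightAcyclic_secTop_of_flasque _ _ (isFlasque_hZero_injective f I)) n (gT f F)
        (isRightAcyclic_descF F hf hsurj)
      exact ⟨(SiteBase.rightDerivedCongr eN n).app (gT f F) ≪≫ e ≪≫ (Γ.rightDerived n).mapIso eA ≪≫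
        SpObjSS.rightDerivedSecAtIso _ ⊤ n F ≪≫
        AddEquiv.toAddCommGrpIso (SiteBase.huTerminalEquiv isTerminalTop F n)⟩)
    (fun p q => ((T.rightDerived q).obj (gT f F)).homology p)
    (fun p q => SpObjSS.nonempty_rightDerived_hZero_iso (𝟭 Ch) hid hI p _)
    (AddCommGrpCat.of PUnit.{u + 1}) (AddCommGrpCat.isZero_of_subsingleton _)
  refine EtDescSplit.exists_spectralSequence_of_pageTwo (fun q => (T.rightDerived q).obj (gT f F))
    (E := E) (fun p q => ?_) (fun p q h => ?_) a ha _ (fun p q => ?_) (fun p q h => ?_)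
  · exact ⟨(hE p q).some ≪≫ eqToIso (by rw [if_pos ⟨Int.natCast_nonneg p, Int.natCast_nonneg q⟩]; rfl)⟩
  · obtain ⟨e⟩ := hE p q
    rw [if_neg (by rintro ⟨h₁, h₂⟩; omega)] at e
    exact (AddCommGrpCat.isZero_of_subsingleton _).of_iso e
  · let e₁ : T ⋙ HomologicalComplex.eval AddCommGrpCat.{u} (ComplexShape.up ℕ) p ≅
        rF f (TIdx.pw p) ⋙ secAt (Opens.grothendieckTopology (tBase f (TIdx.pw p)).left) ⊤ :=
      NatIso.ofComponents (fun _ => Iso.refl _) (fun _ => (Category.comp_id _).trans (Category.id_comp _).symm)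
    obtain ⟨e⟩ := nonempty_rightDerived_secT f (TIdx.pw p) (gT f F) q
    haveI := isIso_gPsi (F := F) (pow f p)
    exact ⟨((SiteBase.rightDerivedCompIso T (HomologicalComplex.eval AddCommGrpCat.{u} (ComplexShape.up ℕ) p) q).app
        (gT f F)).symm ≪≫ (SiteBase.rightDerivedCongr e₁ q).app (gT f F) ≪≫ e ≪≫
      (Sheaf.functorH (Opens.grothendieckTopology (pow f p).left) q).mapIso
        (gTRestr F (TIdx.pw p) ≪≫ (asIso (gPsi F (pow f p))).symm) ≪≫
      eqToIso (by rw [if_pos ⟨Int.natCast_nonneg p, Int.natCast_nonneg q⟩]; rfl)⟩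
  · rw [if_neg (by rintro ⟨h₁, h₂⟩; omega)]
    exact AddCommGrpCat.isZero_of_subsingleton _

end Groth.Agent.TopDescent

end
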