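import Groth.Agent.SpObjSS.ExactCx
import Mathlib.Algebra.Homology.HomologySequence
import Mathlib.Algebra.Homology.HomologicalComplexAbelian
import Mathlib.Algebra.Homology.HomologicalComplexBiprod

/-!
# Left exact functors and quasi-isomorphisms of complexes of acyclic objects
-/

universe v v' u u'

open CategoryTheory CategoryTheory.Limits
open scoped ZeroObject

noncomputable section

namespace Groth.Agent.TopDescent

variable {A : Type u} [Category.{v} A] [Abelian A]

section Path

variable (B : CochainComplex A ℕ)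

/-- The previous term. -/
def pre : ℕ → A
  | 0 => 0
  | n + 1 => B.X n

/-- The differential out of the previous term. -/
def preD : ∀ n, pre B n ⟶ B.X n
  | 0 => 0
  | n + 1 => B.d n (n + 1)

theorem preD_d : ∀ n, preD B n ≫ B.d n (n + 1) = 0
  | 0 => zero_comp
  | _ + 1 => B.d_comp_d _ _ _

/-- The shift of the previous term. -/
def preIn (n : ℕ) : B.X n ⟶ pre B (n + 1) := 𝟙 (B.X n)

/-- The inverse shift. -/
def preOut (n : ℕ) : pre B (n + 1) ⟶ B.X n := 𝟙 (B.X n)

theorem preIn_preOut (n : ℕ) : preIn B n ≫ preOut B n = 𝟙 _ := Category.comp_id (𝟙 (B.X n))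

theorem preOut_preIn (n : ℕ) : preOut B n ≫ preIn B n = 𝟙 _ := Category.comp_id (𝟙 (B.X n))

theorem preIn_preD (n : ℕ) : preIn B n ≫ preD B (n + 1) = B.d n (n + 1) := Category.id_comp _

/-- A contractible complex mapping onto a given one. -/
def pathObj : CochainComplex A ℕ :=
  CochainComplex.of (fun n => pre B n ⊞ B.X n)
    (fun n => (biprod.snd : pre B n ⊞ B.X n ⟶ B.X n) ≫ preIn B n ≫ biprod.inl) (fun n => by simp)

theorem pathObj_d (n : ℕ) : (pathObj B).d n (n + 1) =
    (biprod.snd : pre B n ⊞ B.X n ⟶ B.X n) ≫ preIn B n ≫ biprod.inl := by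
  dsimp [pathObj]
  exact CochainComplex.of_d _ _ _

/-- The projection. -/
def pathπ : pathObj B ⟶ B where
  f n := biprod.desc (preD B n) (𝟙 _)
  comm' i j h := by
    obtain rfl : i + 1 = j := h
    refine Eq.trans ?_ (congrArg (· ≫ _) (pathObj_d B i).symm)
    show biprod.desc (preD B i) (𝟙 (B.X i)) ≫ B.d i (i + 1) =
      ((biprod.snd : pre B i ⊞ B.X i ⟶ B.X i) ≫ preIn B i ≫ biprod.inl) ≫
        biprod.desc (preD B (i + 1)) (𝟙 (B.X (i + 1)))
    apply biprod.hom_ext' <;> simp [preD_d, preIn_preD]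

/-- The contraction. -/
def pathH (n : ℕ) : (pathObj B).X (n + 1) ⟶ (pathObj B).X n :=
  (biprod.fst : pre B (n + 1) ⊞ B.X (n + 1) ⟶ pre B (n + 1)) ≫ preOut B n ≫ biprod.inr

theorem pathH_spec (n : ℕ) :
    pathH B n ≫ (pathObj B).d n (n + 1) + (pathObj B).d (n + 1) (n + 1 + 1) ≫ pathH B (n + 1) = 𝟙 _ := by
  rw [pathObj_d, pathObj_d]
  show ((biprod.fst : pre B (n + 1) ⊞ B.X (n + 1) ⟶ _) ≫ preOut B n ≫ (biprod.inr : B.X n ⟶ pre B n ⊞ B.X n)) ≫
      ((biprod.snd : pre B n ⊞ B.X n ⟶ _) ≫ preIn B n ≫ biprod.inl) +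
    ((biprod.snd : pre B (n + 1) ⊞ B.X (n + 1) ⟶ _) ≫ preIn B (n + 1) ≫
        (biprod.inl : pre B (n + 1 + 1) ⟶ pre B (n + 1 + 1) ⊞ B.X (n + 1 + 1))) ≫
      (biprod.fst ≫ preOut B (n + 1) ≫ biprod.inr) = 𝟙 (pre B (n + 1) ⊞ B.X (n + 1))
  simp only [Category.assoc, biprod.inr_snd_assoc, biprod.inl_fst_assoc, reassoc_of% (preOut_preIn B n),
    reassoc_of% (preIn_preOut B (n + 1))]
  exact biprod.total

theorem pathH_zero : (pathObj B).d 0 (0 + 1) ≫ pathH B 0 = 𝟙 _ := by
  rw [pathObj_d]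
  show ((biprod.snd : pre B 0 ⊞ B.X 0 ⟶ _) ≫ preIn B 0 ≫ (biprod.inl : pre B (0 + 1) ⟶ pre B (0 + 1) ⊞ B.X (0 + 1))) ≫
    (biprod.fst ≫ preOut B 0 ≫ biprod.inr) = 𝟙 (pre B 0 ⊞ B.X 0)
  simp only [Category.assoc, biprod.inl_fst_assoc, reassoc_of% (preIn_preOut B 0)]
  refine Eq.trans ?_ biprod.total
  rw [(show IsZero (pre B 0) from isZero_zero A).eq_of_tgt (biprod.fst : pre B 0 ⊞ B.X 0 ⟶ pre B 0) 0,
    zero_comp, zero_add]

end Path

variable {C : Type u'} [Category.{v'} C] [Abelian C] (Ψ : A ⥤ C) [Ψ.Additive]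

theorem exactAt_map_pathObj (B : CochainComplex A ℕ) (n : ℕ) :
    ((Ψ.mapHomologicalComplex (ComplexShape.up ℕ)).obj (pathObj B)).ExactAt n := by
  cases n with
  | zero =>
    rw [HomologicalComplex.exactAt_iff' _ 0 0 1 (by simp) (by simp), ShortComplex.exact_iff_exact_up_to_refinements]
    intro W x hx
    refine ⟨W, 𝟙 W, inferInstance, 0, (Category.id_comp x).trans ?_⟩
    rw [zero_comp]
    let x' : W ⟶ Ψ.obj ((pathObj B).X 0) := x
    have hx' : x' ≫ Ψ.map ((pathObj B).d 0 1) = 0 := hx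
    calc x = x' ≫ Ψ.map ((pathObj B).d 0 1 ≫ pathH B 0) := by
          rw [pathH_zero, Ψ.map_id, Category.comp_id]
      _ = 0 := by rw [Ψ.map_comp, ← Category.assoc, hx', zero_comp]
  | succ n =>
    rw [HomologicalComplex.exactAt_iff' _ n (n + 1) (n + 1 + 1) (by simp) (by simp),
      ShortComplex.exact_iff_exact_up_to_refinements]
    intro W x hx
    let x' : W ⟶ Ψ.obj ((pathObj B).X (n + 1)) := x
    have hx' : x' ≫ Ψ.map ((pathObj B).d (n + 1) (n + 1 + 1)) = 0 := hx
    refine ⟨W, 𝟙 W, inferInstance, x' ≫ Ψ.map (pathH B n), (Category.id_comp x).trans ?_⟩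
    show x' = (x' ≫ Ψ.map (pathH B n)) ≫ Ψ.map ((pathObj B).d n (n + 1))
    have h := congrArg (fun m => x' ≫ Ψ.map m) (pathH_spec B n)
    simp only [Functor.map_add, Functor.map_comp, Preadditive.comp_add, CategoryTheory.Functor.map_id,
      Category.comp_id] at h
    rw [← Category.assoc x' (Ψ.map ((pathObj B).d (n + 1) (n + 1 + 1))), hx', zero_comp, add_zero] at h
    rw [Category.assoc]
    exact h.symm

variable [EnoughInjectives A] [PreservesFiniteLimits Ψ]

theorem isRightAcyclic_biprod {X Y : A} (hX : TriCat.IsRightAcyclic Ψ X) (hY : TriCat.IsRightAcyclic Ψ Y) :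
    TriCat.IsRightAcyclic Ψ (X ⊞ Y) := fun i hi => by
  rw [IsZero.iff_id_eq_zero, ← (Ψ.rightDerived i).map_id, ← biprod.total, Functor.map_add, Functor.map_comp,
    Functor.map_comp, (hX i hi).eq_of_tgt ((Ψ.rightDerived i).map biprod.fst) 0,
    (hY i hi).eq_of_tgt ((Ψ.rightDerived i).map biprod.snd) 0, zero_comp, zero_comp, add_zero]

theorem isRightAcyclic_zero {X : A} (hX : IsZero X) : TriCat.IsRightAcyclic Ψ X := fun i _ =>
  (Ψ.rightDerived i).map_isZero hX

/-- An exact complex of acyclic objects stays exact. -/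
theorem exactAt_map_of_acyclic (Q : CochainComplex A ℕ) (hQ : ∀ n, Q.ExactAt n)
    (hac : ∀ n, TriCat.IsRightAcyclic Ψ (Q.X n)) (n : ℕ) :
    ((Ψ.mapHomologicalComplex (ComplexShape.up ℕ)).obj Q).ExactAt n := by
  let := HasDerivedCategory.standard A
  let := HasDerivedCategory.standard C
  have hS : ∀ m, (ShortComplex.mk (Q.iCycles m) (Q.toCycles m (m + 1))
      ((cancel_mono (Q.iCycles (m + 1))).1 (by simp))).ShortExact := fun m => by
    refine { exact := ?_, mono_f := inferInstanceAs (Mono (Q.iCycles m)), epi_g := ?_ }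
    · refine ShortComplex.exact_of_f_is_kernel _ (KernelFork.IsLimit.ofι' (Q.iCycles m) _ fun {W} k hk => ?_)
      have hk' : k ≫ Q.d m (m + 1) = 0 := by
        rw [← Q.toCycles_i m (m + 1), ← Category.assoc, hk, zero_comp]
      exact ⟨Q.liftCycles k (m + 1) (by simp) hk', Q.liftCycles_i k (m + 1) (by simp) hk'⟩
    · have : IsZero (Q.homology (m + 1)) := ((HomologicalComplex.exactAt_iff_isZero_homology _ _).1 (hQ (m + 1)))
      show Epi (Q.toCycles m (m + 1))
      exact Preadditive.epi_of_cancel_zero _ fun {P} g hg => by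
        let t : Q.homology (m + 1) ⟶ P := (Q.homologyIsCokernel m (m + 1) (by simp)).desc (CokernelCofork.ofπ g hg)
        have ht : Q.homologyπ (m + 1) ≫ t = g :=
          (Q.homologyIsCokernel m (m + 1) (by simp)).fac (CokernelCofork.ofπ g hg) WalkingParallelPair.one
        rw [← ht, this.eq_of_src t 0, comp_zero]
  have hz : IsZero (Q.cycles 0) :=
    ((HomologicalComplex.exactAt_iff_isZero_homology _ _).1 (hQ 0)).of_iso
      (@asIso _ _ _ _ (Q.homologyπ 0) (Q.isIso_homologyπ 0 0 (by simp) (Q.shape 0 0 (by simp))))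
  have hZ : ∀ m, TriCat.IsRightAcyclic Ψ (Q.cycles m) := by
    intro m
    induction m with
    | zero => exact isRightAcyclic_zero Ψ hz
    | succ m ih => exact TriCat.acyclic₃ (hS m) ih (hac m)
  rw [HomologicalComplex.exactAt_iff_isZero_homology]
  let K := (Ψ.mapHomologicalComplex (ComplexShape.up ℕ)).obj Q
  show IsZero (K.homology n)
  have hlift : ∀ (m : ℕ), ∃ e : K.cycles m ⟶ Ψ.obj (Q.cycles m), e ≫ Ψ.map (Q.iCycles m) = K.iCycles m :=
    fun m => ⟨((K.cyclesIsKernel m (m + 1) (by simp)).conePointUniqueUpToIso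
      (KernelFork.mapIsLimit _ (Q.cyclesIsKernel m (m + 1) (by simp)) Ψ)).hom,
      IsLimit.conePointUniqueUpToIso_hom_comp _ _ WalkingParallelPair.zero⟩
  rw [← HomologicalComplex.exactAt_iff_isZero_homology]
  cases n with
  | zero =>
    rw [HomologicalComplex.exactAt_iff' _ 0 0 1 (by simp) (by simp), ShortComplex.exact_iff_exact_up_to_refinements]
    intro W x hx
    refine ⟨W, 𝟙 W, inferInstance, 0, (Category.id_comp x).trans ?_⟩
    rw [zero_comp]
    obtain ⟨e, he⟩ := hlift 0
    let y : W ⟶ K.cycles 0 := K.liftCycles x 1 (by simp) hx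
    have hy : y ≫ K.iCycles 0 = x := K.liftCycles_i x 1 (by simp) hx
    rw [← hy, ← he, (Ψ.map_isZero hz).eq_of_tgt e 0, zero_comp]
    exact comp_zero
  | succ m =>
    rw [HomologicalComplex.exactAt_iff' _ m (m + 1) (m + 1 + 1) (by simp) (by simp),
      ShortComplex.exact_iff_exact_up_to_refinements]
    intro W x hx
    obtain ⟨e, he⟩ := hlift (m + 1)
    let y : W ⟶ K.cycles (m + 1) := K.liftCycles x (m + 1 + 1) (by simp) hx
    have hy : y ≫ K.iCycles (m + 1) = x := K.liftCycles_i x (m + 1 + 1) (by simp) hx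
    have hE : Epi (Ψ.map (Q.toCycles m (m + 1))) :=
      (TriCat.shortExact_map_of_subsingleton (hS m) ((hZ m) 1 Nat.one_pos)).epi_g
    obtain ⟨W', π, hπ, z, hz'⟩ := (epi_iff_surjective_up_to_refinements _).1 hE (y ≫ e)
    refine ⟨W', π, hπ, z, ?_⟩
    show π ≫ x = z ≫ Ψ.map (Q.d m (m + 1))
    rw [← Q.toCycles_i m (m + 1), Ψ.map_comp, ← Category.assoc z, ← hz', Category.assoc, Category.assoc, he]
    exact congrArg (π ≫ ·) hy.symm

omit [EnoughInjectives A] [PreservesFiniteLimits Ψ] in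
theorem isIso_map_iff_biprod_desc {E : Type*} [Category E] [Abelian E] {D : Type*} [Category D] [Abelian D]
    (G : E ⥤ D) [G.Additive] {P Z B : E} (f : P ⟶ B) (h : Z ⟶ B) (hz : IsZero (G.obj Z)) :
    IsIso (G.map f) ↔ IsIso (G.map (biprod.desc f h)) := by
  haveI hinl : IsIso (G.map (biprod.inl : P ⟶ P ⊞ Z)) := by
    refine ⟨G.map biprod.fst, ?_, ?_⟩
    · rw [← G.map_comp, biprod.inl_fst, G.map_id]
    · rw [← G.map_comp, ← G.map_id, ← biprod.total, G.map_add, G.map_comp biprod.snd,
        hz.eq_of_tgt (G.map biprod.snd) 0, zero_comp, add_zero]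
  have e : G.map (biprod.inl : P ⟶ P ⊞ Z) ≫ G.map (biprod.desc f h) = G.map f := by
    rw [← G.map_comp, biprod.inl_desc]
  constructor <;> intro hh
  · rw [← e] at hh
    exact IsIso.of_isIso_comp_left (G.map (biprod.inl : P ⟶ P ⊞ Z)) _
  · rw [← e]
    infer_instance

/-- A quasi-isomorphism between complexes of acyclic objects stays one. -/
theorem quasiIso_map_of_acyclic {P B : CochainComplex A ℕ} (f : P ⟶ B) (hf : QuasiIso f)
    (hP : ∀ n, TriCat.IsRightAcyclic Ψ (P.X n)) (hB : ∀ n, TriCat.IsRightAcyclic Ψ (B.X n)) :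
    QuasiIso ((Ψ.mapHomologicalComplex (ComplexShape.up ℕ)).map f) := by
  let g : P ⊞ pathObj B ⟶ B := biprod.desc f (pathπ B)
  let S : ShortComplex (CochainComplex A ℕ) := ShortComplex.mk (kernel.ι g) g (kernel.condition g)
  have hsec : ∀ n, ∃ s : B.X n ⟶ (P ⊞ pathObj B).X n, s ≫ g.f n = 𝟙 _ := fun n =>
    ⟨(biprod.inr : B.X n ⟶ pre B n ⊞ B.X n) ≫ (biprod.inr : pathObj B ⟶ P ⊞ pathObj B).f n, by
      rw [Category.assoc]
      exact (congrArg ((biprod.inr : B.X n ⟶ pre B n ⊞ B.X n) ≫ ·)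
        (congrArg (fun h : pathObj B ⟶ B => h.f n) (biprod.inr_desc f (pathπ B)))).trans (biprod.inr_desc _ _)⟩
  have hepi : Epi g := HomologicalComplex.epi_of_epi_f _ fun n => by
    obtain ⟨s, hs⟩ := hsec n
    exact (SplitEpi.mk s hs).epi
  have hS : S.ShortExact :=
    { exact := ShortComplex.exact_of_f_is_kernel _ (kernelIsKernel g)
      mono_f := inferInstanceAs (Mono (kernel.ι g))
      epi_g := hepi }
  have hSn : ∀ n, (S.map (HomologicalComplex.eval A (ComplexShape.up ℕ) n)).ShortExact := fun n =>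
    hS.map_of_exact _
  have hspl : ∀ n, Nonempty (S.map (HomologicalComplex.eval A (ComplexShape.up ℕ) n)).Splitting := fun n => by
    obtain ⟨s, hs⟩ := hsec n
    exact ⟨ShortComplex.Splitting.ofExactOfSection _ (hSn n).exact s hs (hSn n).mono_f⟩
  let M := Ψ.mapHomologicalComplex (ComplexShape.up ℕ)
  have hMS : (S.map M).ShortExact := HomologicalComplex.shortExact_of_degreewise_shortExact _ fun n =>
    ((hspl n).some.map Ψ).shortExact
  have hQac : ∀ n, TriCat.IsRightAcyclic Ψ (S.X₁.X n) := fun n i hi => by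
    have hbi : TriCat.IsRightAcyclic Ψ (((P ⊞ pathObj B).X n)) := by
      have hp : TriCat.IsRightAcyclic Ψ (pre B n ⊞ B.X n) := by
        cases n with
        | zero => exact isRightAcyclic_biprod Ψ (isRightAcyclic_zero Ψ (isZero_zero A)) (hB 0)
        | succ m => exact isRightAcyclic_biprod Ψ (hB m) (hB (m + 1))
      intro j hj
      exact ((isRightAcyclic_biprod Ψ (hP n) hp) j hj).of_iso
        ((Ψ.rightDerived j).mapIso (HomologicalComplex.biprodXIso P (pathObj B) n))
    haveI : Mono ((Ψ.rightDerived i).map (S.map (HomologicalComplex.eval A (ComplexShape.up ℕ) n)).f) :=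
      ((SplitMono.mk (hspl n).some.r (hspl n).some.f_r).map (Ψ.rightDerived i)).mono
    exact @IsZero.of_mono _ _ _ _ _ _ this (hbi i hi)
  let Hn := fun n => HomologicalComplex.homologyFunctor A (ComplexShape.up ℕ) n
  have hpathA : ∀ n, IsZero ((Hn n).obj (pathObj B)) := fun n =>
    IsZero.of_iso ((HomologicalComplex.exactAt_iff_isZero_homology _ _).1 (exactAt_map_pathObj (𝟭 A) B n))
      (Iso.refl _)
  have hgA : ∀ n, IsIso (HomologicalComplex.homologyMap g n) := fun n =>
    (isIso_map_iff_biprod_desc (Hn n) f (pathπ B) (hpathA n)).1 ((quasiIsoAt_iff_isIso_homologyMap f n).1 ((quasiIso_iff f).1 hf n))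
  have hQ : ∀ n, S.X₁.ExactAt n := fun n => by
    rw [HomologicalComplex.exactAt_iff_isZero_homology]
    haveI := hgA n
    have h0 : HomologicalComplex.homologyMap S.f n = 0 := by
      refine (cancel_mono (HomologicalComplex.homologyMap g n)).1 ?_
      rw [zero_comp, ← HomologicalComplex.homologyMap_comp, kernel.condition, HomologicalComplex.homologyMap_zero]
    have hm : Mono (HomologicalComplex.homologyMap S.f n) := by
      cases n with
      | zero =>
        haveI : IsIso (S.X₁.homologyπ 0) := S.X₁.isIso_homologyπ 0 0 (by simp) (S.X₁.shape 0 0 (by simp))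
        haveI : IsIso (S.X₂.homologyπ 0) := S.X₂.isIso_homologyπ 0 0 (by simp) (S.X₂.shape 0 0 (by simp))
        haveI : Mono (S.f.f 0) := (hSn 0).mono_f
        haveI : Mono (HomologicalComplex.cyclesMap S.f 0) := by
          have : Mono (HomologicalComplex.cyclesMap S.f 0 ≫ S.X₂.iCycles 0) := by
            rw [HomologicalComplex.cyclesMap_i]; infer_instance
          exact mono_of_mono _ (S.X₂.iCycles 0)
        have : Mono (S.X₁.homologyπ 0 ≫ HomologicalComplex.homologyMap S.f 0) := by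
          rw [HomologicalComplex.homologyπ_naturality]; infer_instance
        have e : HomologicalComplex.homologyMap S.f 0 =
            inv (S.X₁.homologyπ 0) ≫ S.X₁.homologyπ 0 ≫ HomologicalComplex.homologyMap S.f 0 := by simp
        rw [e]
        infer_instance
      | succ m =>
        haveI := hgA m
        have hδ : hS.δ m (m + 1) (by simp) = 0 := by
          refine (cancel_epi (HomologicalComplex.homologyMap g m)).1 ?_
          rw [comp_zero]
          exact hS.comp_δ m (m + 1) (by simp)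
        exact (hS.homology_exact₁ m (m + 1) (by simp)).mono_g hδ
    exact IsZero.of_mono_eq_zero _ h0
  have hMQ := exactAt_map_of_acyclic Ψ S.X₁ hQ hQac
  rw [quasiIso_iff]
  intro n
  rw [quasiIsoAt_iff_isIso_homologyMap]
  have hMg : IsIso (HomologicalComplex.homologyMap (M.map g) n) := by
    have hzero : ∀ k, IsZero ((S.map M).X₁.homology k) := fun k =>
      (HomologicalComplex.exactAt_iff_isZero_homology _ _).1 (hMQ k)
    haveI : Mono (HomologicalComplex.homologyMap (S.map M).g n) :=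
      (hMS.homology_exact₂ n).mono_g ((hzero n).eq_of_src _ _)
    haveI : Epi (HomologicalComplex.homologyMap (S.map M).g n) :=
      (hMS.homology_exact₃ n (n + 1) (by simp)).epi_f ((hzero (n + 1)).eq_of_tgt _ _)
    exact isIso_of_mono_of_epi (HomologicalComplex.homologyMap (S.map M).g n)
  exact (isIso_map_iff_biprod_desc (M ⋙ HomologicalComplex.homologyFunctor C (ComplexShape.up ℕ) n) f (pathπ B)
    ((HomologicalComplex.exactAt_iff_isZero_homology _ _).1 (exactAt_map_pathObj Ψ B n))).2 hMg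

end Groth.Agent.TopDescent

end
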