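import Groth.Agent.TopDescent.LocalSS

/-!
# Closed maps with finite, separated fibres
-/

set_option autoImplicit false

universe u

open CategoryTheory CategoryTheory.Limits TopologicalSpace Opposite Topology Filter

noncomputable section

namespace Groth.Agent.TopDescent

open EtDescSplit (pow powMap powCx dd dd_apply)

variable {S : TopCat.{u}}

/-- Closed maps with finite fibres whose points are separated by opens. -/
structure FinFib (W : Over S) : Prop where
  closed : IsClosedMap W.hom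
  finite : ∀ y : S, {w : W.left | W.hom w = y}.Finite
  sep : ∀ w w' : W.left, W.hom w = W.hom w' → w ≠ w' →
    ∃ U V : Set W.left, IsOpen U ∧ IsOpen V ∧ w ∈ U ∧ w' ∈ V ∧ Disjoint U V

theorem FinFib.exists_disjoint {W : Over S} (hW : FinFib W) (y : S)
    (N : ∀ w : {w : W.left // W.hom w = y}, Opens W.left) (hN : ∀ w, w.1 ∈ N w) :
    ∃ (N' : {w : W.left // W.hom w = y} → Opens W.left) (V : Opens S), y ∈ V ∧ (∀ w, w.1 ∈ N' w) ∧
      (∀ w, N' w ≤ N w) ∧ (∀ w w' (z : W.left), z ∈ N' w → z ∈ N' w' → w = w') ∧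
      ∀ z, W.hom z ∈ V → ∃ w, z ∈ N' w := by
  classical
  haveI : Finite {w : W.left // W.hom w = y} := (hW.finite y).to_subtype
  choose U V hU hV hwU hwV hd using fun (a b : {w : W.left // W.hom w = y}) (h : a ≠ b) =>
    hW.sep a.1 b.1 (a.2.trans b.2.symm) (fun e => h (Subtype.ext e))
  let sepSet : {w : W.left // W.hom w = y} → {w : W.left // W.hom w = y} → Set W.left := fun a b =>
    if h : a = b then Set.univ else U a b h ∩ V b a (Ne.symm h)
  have hso : ∀ a b, IsOpen (sepSet a b) := fun a b => by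
    by_cases h : a = b
    · simp [sepSet, h]
    · simp only [sepSet, dif_neg h]
      exact (hU a b h).inter (hV b a _)
  have hsm : ∀ a b, a.1 ∈ sepSet a b := fun a b => by
    by_cases h : a = b
    · simp [sepSet, h]
    · simp only [sepSet, dif_neg h]
      exact ⟨hwU a b h, hwV b a _⟩
  let N' : {w : W.left // W.hom w = y} → Opens W.left := fun a =>
    ⟨(N a : Set W.left) ∩ ⋂ b, sepSet a b, (N a).isOpen.inter (isOpen_iInter_of_finite (hso a))⟩
  let Wc : Set W.left := (⋃ a, (N' a : Set W.left))ᶜ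
  have hWc : IsClosed Wc := (isOpen_iUnion fun a => (N' a).isOpen).isClosed_compl
  let V' : Opens S := ⟨(W.hom '' Wc)ᶜ, (hW.closed _ hWc).isOpen_compl⟩
  refine ⟨N', V', ?_, fun a => ⟨hN a, Set.mem_iInter.2 (hsm a)⟩, fun a z hz => hz.1, fun a b z hza hzb => ?_,
    fun z hz => ?_⟩
  · rintro ⟨z, hz, hzy⟩
    exact hz (Set.mem_iUnion.2 ⟨⟨z, hzy⟩, hN _, Set.mem_iInter.2 (hsm _)⟩)
  · by_contra h
    have h1 := Set.mem_iInter.1 hza.2 b
    have h2 := Set.mem_iInter.1 hzb.2 a
    simp only [sepSet, dif_neg h] at h1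
    simp only [sepSet, dif_neg (Ne.symm h)] at h2
    exact Set.disjoint_left.1 (hd a b h) h1.1 h2.2
  · by_contra h
    refine hz ⟨z, fun hu => ?_, rfl⟩
    obtain ⟨a, ha⟩ := Set.mem_iUnion.1 hu
    exact h ⟨a, ha⟩

/-- A family vanishing on a fibre vanishes nearby. -/
theorem FinFib.exists_vanish {F : CohTop.Ab S} {W : Over S} (hW : FinFib W) (U : Opens S) (y : S) (hy : y ∈ U)
    (σ : gGroup F (over W U))
    (h : ∀ (w : (Opens.map W.hom).obj U) (e : (over W U).hom w = y), σ.1 w ⟨y, e⟩ = 0) :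
    ∃ (V : Opens S) (_ : y ∈ V) (hVU : V ≤ U), rU W hVU σ = 0 := by
  have hfib : ∀ a : {w : W.left // W.hom w = y}, ∃ N : Opens W.left, a.1 ∈ N ∧
      ∀ (z : W.left) (hz : z ∈ (Opens.map W.hom).obj U), z ∈ N →
        ∀ (x : S) (e : (over W U).hom ⟨z, hz⟩ = x), σ.1 ⟨z, hz⟩ ⟨x, e⟩ = 0 := by
    rintro ⟨a, ha⟩
    have haU : W.hom a ∈ U := ha ▸ hy
    obtain ⟨U₁, hU₁, s, hs⟩ := σ.2 ⟨a, haU⟩
    obtain ⟨M, hM, hMo, haM⟩ := eventually_nhds_iff.1 hs
    have hy₁ : y ∈ U₁ := ha ▸ hU₁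
    have h0 : gm F y hy₁ s = 0 := (hM _ haM y ha hy₁).symm.trans (h _ _)
    obtain ⟨U₂, hyU₂, i, j, hsz⟩ := TopCat.Presheaf.germ_eq F.obj y hy₁ hy₁ s 0 (h0.trans (map_zero _).symm)
    rw [map_zero] at hsz
    refine ⟨⟨Subtype.val '' M ∩ (Opens.map W.hom).obj U₂,
      (((Opens.map W.hom).obj U).isOpen.isOpenEmbedding_subtypeVal.isOpenMap _ hMo).inter (Opens.isOpen _)⟩,
      ⟨⟨⟨a, haU⟩, haM, rfl⟩, show W.hom a ∈ U₂ from ha ▸ hyU₂⟩, fun z hz hzN x e => ?_⟩
    obtain ⟨⟨z', hz', hzz'⟩, hzU₂⟩ := hzN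
    obtain rfl : z' = ⟨z, hz⟩ := Subtype.ext hzz'
    have hx₂ : x ∈ U₂ := (show W.hom z = x from e) ▸ hzU₂
    rw [hM _ hz' x e (leOfHom i hx₂)]
    refine (TopCat.Presheaf.germ_res_apply (F := F.obj) i x hx₂ s).symm.trans ?_
    rw [hsz]
    exact map_zero _
  choose N hN hN0 using hfib
  obtain ⟨N', V, hyV, -, hle, -, hcov⟩ := hW.exists_disjoint y N hN
  refine ⟨U ⊓ V, ⟨hy, hyV⟩, inf_le_left, Subtype.ext (funext fun w => funext fun ⟨x, e⟩ => ?_)⟩
  obtain ⟨a, ha⟩ := hcov w.1 w.2.2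
  exact hN0 a w.1 w.2.1 (hle a ha) x e

theorem gm_congr {F : CohTop.Ab S} {ι : Sort*} (Us : ι → Opens S) (s : ∀ a, F.obj.obj (op (Us a))) {a b : ι}
    (h : a = b) (x : S) (hx : x ∈ Us a) (hx' : x ∈ Us b) : gm F x hx (s a) = gm F x hx' (s b) := by
  subst h; rfl

/-- Sections near a fibre with prescribed values on it. -/
theorem FinFib.exists_extend_fibre {F : CohTop.Ab S} {W : Over S} (hW : FinFib W) (y : S)
    (v : {w : W.left // W.hom w = y} → St F y) :
    ∃ (V : Opens S) (_ : y ∈ V) (σ : gGroup F (over W V)),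
      ∀ (w : (Opens.map W.hom).obj V) (e : (over W V).hom w = y), σ.1 w ⟨y, e⟩ = v ⟨w.1, e⟩ := by
  choose Us hUs s hs using fun a => TopCat.Presheaf.exists_germ_eq (F := F.obj) (v a)
  obtain ⟨N', V, hyV, hmem, hle, hdis, hcov⟩ := hW.exists_disjoint y (fun a => (Opens.map W.hom).obj (Us a))
    (fun a => show W.hom a.1 ∈ Us a from a.2.symm ▸ hUs a)
  choose idx hidx using fun z : (Opens.map W.hom).obj V => hcov z.1 z.2
  let σ : GFam F (over W V) := fun z x =>
    gm F x.1 (show x.1 ∈ Us (idx z) from x.2 ▸ hle _ (hidx z)) (s (idx z))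
  have hσ : IsLoc F σ := by
    intro z
    refine ⟨Us (idx z), hle _ (hidx z), s (idx z), ?_⟩
    refine eventually_nhds_iff.2 ⟨(fun q : (Opens.map W.hom).obj V => q.1) ⁻¹' (N' (idx z) : Set W.left), ?_,
      (N' (idx z)).isOpen.preimage continuous_subtype_val, hidx z⟩
    intro q hq x e hx
    have hi : idx q = idx z := hdis _ _ q.1 (hidx q) hq
    exact gm_congr Us s hi x _ hx
  refine ⟨V, hyV, ⟨σ, hσ⟩, fun w e => ?_⟩
  have hi : idx w = ⟨w.1, e⟩ := hdis _ _ w.1 (hidx w) (hmem ⟨w.1, e⟩)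
  exact (gm_congr Us s hi y _ (hUs ⟨w.1, e⟩)).trans (hs ⟨w.1, e⟩)

variable {X : TopCat.{u}} (f : X ⟶ S)

theorem nhds_pow {n : ℕ} (z : (pow f n).left) :
    (⨅ i : Fin (n + 1), Filter.comap (WidePullback.π (fun _ : Fin (n + 1) => f) i)
      (𝓝 (WidePullback.π (fun _ : Fin (n + 1) => f) i z))) ≤ 𝓝 z := by
  have ht : (widePullback S (fun _ : Fin (n + 1) => X) (fun _ => f)).str =
      ⨅ j, TopologicalSpace.induced
        (limit.π (WidePullbackShape.wideCospan S (fun _ : Fin (n + 1) => X) (fun _ => f)) j)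
        ((WidePullbackShape.wideCospan S (fun _ : Fin (n + 1) => X) (fun _ => f)).obj j).str :=
    TopCat.limit_topology _
  have h : 𝓝 z = ⨅ j, Filter.comap (limit.π (WidePullbackShape.wideCospan S (fun _ : Fin (n + 1) => X) (fun _ => f)) j)
      (𝓝 (limit.π (WidePullbackShape.wideCospan S (fun _ : Fin (n + 1) => X) (fun _ => f)) j z)) := by
    conv_lhs => rw [show 𝓝 z = @nhds _ (widePullback S (fun _ : Fin (n + 1) => X) (fun _ => f)).str z from rfl, ht]
    rw [nhds_iInf]
    exact iInf_congr fun j => nhds_induced _ _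
  rw [h]
  refine le_iInf fun j => ?_
  cases j with
  | some i => exact iInf_le (fun i : Fin (n + 1) => Filter.comap (WidePullback.π (fun _ : Fin (n + 1) => f) i)
      (𝓝 (WidePullback.π (fun _ : Fin (n + 1) => f) i z))) i
  | none =>
    refine (iInf_le (fun i : Fin (n + 1) => Filter.comap (WidePullback.π (fun _ : Fin (n + 1) => f) i)
      (𝓝 (WidePullback.π (fun _ : Fin (n + 1) => f) i z))) 0).trans ?_
    rw [← Filter.tendsto_iff_comap]
    show Filter.Tendsto (fun w => WidePullback.base (fun _ : Fin (n + 1) => f) w) _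
      (𝓝 (WidePullback.base (fun _ : Fin (n + 1) => f) z))
    have hb : ∀ w, WidePullback.base (fun _ : Fin (n + 1) => f) w =
        f (WidePullback.π (fun _ : Fin (n + 1) => f) 0 w) :=
      fun w => (ConcreteCategory.congr_hom (WidePullback.π_arrow (fun _ : Fin (n + 1) => f) 0) w).symm
    rw [hb z, show (fun w => WidePullback.base (fun _ : Fin (n + 1) => f) w) =
      f ∘ (WidePullback.π (fun _ : Fin (n + 1) => f) 0) from funext hb]
    exact f.hom.continuous.continuousAt.tendsto.comp Filter.tendsto_comap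

theorem exists_box {n : ℕ} (z : (pow f n).left) (O : Set (pow f n).left) (hO : IsOpen O) (hz : z ∈ O) :
    ∃ B : Fin (n + 1) → Opens X, (∀ i, WidePullback.π (fun _ : Fin (n + 1) => f) i z ∈ B i) ∧
      ∀ w, (∀ i, WidePullback.π (fun _ : Fin (n + 1) => f) i w ∈ B i) → w ∈ O := by
  obtain ⟨t, ht, hO'⟩ := (Filter.mem_iInf_of_finite _).1 (nhds_pow f z (hO.mem_nhds hz))
  choose r hr hrt using fun i => Filter.mem_comap.1 (ht i)
  choose B hB hBo hBz using fun i => mem_nhds_iff.1 (hr i)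
  refine ⟨fun i => ⟨B i, hBo i⟩, hBz, fun w hw => ?_⟩
  rw [hO']
  exact Set.mem_iInter.2 fun i => hrt i (hB i (hw i))

theorem finFib_pow (hf : FinFib (Over.mk f)) (n : ℕ) : FinFib (pow f n) where
  finite y := by
    have hfin : Finite {a : X // f a = y} := (hf.finite y).to_subtype
    have hpi : ∀ (i : Fin (n + 1)) (w : (pow f n).left),
        f (WidePullback.π (fun _ : Fin (n + 1) => f) i w) = (pow f n).hom w :=
      fun i w => ConcreteCategory.congr_hom (WidePullback.π_arrow (fun _ : Fin (n + 1) => f) i) w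
    haveI : Finite {w : (pow f n).left // (pow f n).hom w = y} :=
      Finite.of_injective
        (fun (w : {w : (pow f n).left // (pow f n).hom w = y}) (i : Fin (n + 1)) =>
          (⟨WidePullback.π (fun _ : Fin (n + 1) => f) i w.1, (hpi i w.1).trans w.2⟩ : {a : X // f a = y}))
        (fun w w' h => Subtype.ext (wp_ext f _ _ fun i => congrArg Subtype.val (congrFun h i)))
    exact Set.finite_coe_iff.1 ‹_›
  sep w w' he hne := by
    obtain ⟨i, hi⟩ : ∃ i, WidePullback.π (fun _ : Fin (n + 1) => f) i w ≠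
        WidePullback.π (fun _ : Fin (n + 1) => f) i w' := by
      by_contra h
      push Not at h
      exact hne (wp_ext f _ _ h)
    have hpi : ∀ z, f (WidePullback.π (fun _ : Fin (n + 1) => f) i z) = (pow f n).hom z :=
      fun z => ConcreteCategory.congr_hom (WidePullback.π_arrow (fun _ : Fin (n + 1) => f) i) z
    obtain ⟨U, V, hU, hV, hw, hw', hd⟩ := hf.sep _ _ ((hpi w).trans (he.trans (hpi w').symm)) hi
    exact ⟨_, _, hU.preimage (WidePullback.π (fun _ : Fin (n + 1) => f) i).hom.continuous,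
      hV.preimage (WidePullback.π (fun _ : Fin (n + 1) => f) i).hom.continuous, hw, hw', hd.preimage _⟩
  closed C hC := by
    classical
    rw [← isOpen_compl_iff, isOpen_iff_mem_nhds]
    intro y hy
    haveI : Finite {a : X // f a = y} := (hf.finite y).to_subtype
    let pt : (Fin (n + 1) → {a : X // f a = y}) → (pow f n).left :=
      fun c => mkPt f (fun i => (c i).1) y (fun i => (c i).2)
    have hpt : ∀ c, pt c ∉ C := fun c hc => hy ⟨pt c, hc, mkPt_hom f _ _ _⟩
    choose B hB hBC using fun c => exists_box f (pt c) Cᶜ hC.isOpen_compl (hpt c)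
    let NSet : {a : X // f a = y} → Set X := fun a => ⋂ c : Fin (n + 1) → {a : X // f a = y}, ⋂ i : Fin (n + 1),
      if c i = a then (B c i : Set X) else Set.univ
    have hNo : ∀ a, IsOpen (NSet a) := fun a => isOpen_iInter_of_finite fun c => isOpen_iInter_of_finite fun i => by
      split_ifs
      · exact (B c i).isOpen
      · exact isOpen_univ
    let N : {a : X // f a = y} → Opens X := fun a => ⟨NSet a, hNo a⟩
    have hN : ∀ a, a.1 ∈ N a := fun a => Set.mem_iInter.2 fun c => Set.mem_iInter.2 fun i => by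
      split_ifs with h
      · have := hB c i
        rw [mkPt_π] at this
        rwa [h] at this
      · trivial
    obtain ⟨N', V, hyV, -, hle, -, hcov⟩ := hf.exists_disjoint y N hN
    refine Filter.mem_of_superset (V.isOpen.mem_nhds hyV) fun y' hy' ⟨z, hzC, hzy⟩ => ?_
    have hpi : ∀ i, f (WidePullback.π (fun _ : Fin (n + 1) => f) i z) = (pow f n).hom z :=
      fun i => ConcreteCategory.congr_hom (WidePullback.π_arrow (fun _ : Fin (n + 1) => f) i) z
    choose c hc using fun i => hcov (WidePullback.π (fun _ : Fin (n + 1) => f) i z)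
      (show f _ ∈ V by rw [hpi i, hzy]; exact hy')
    refine hBC c z (fun i => ?_) hzC
    have := Set.mem_iInter.1 (Set.mem_iInter.1 (hle (c i) (hc i)) c) i
    rwa [if_pos rfl] at this

variable (F : CohTop.Ab S)

theorem alt_sum_shift {A B C : Type*} [AddCommGroup A] [AddCommGroup B] [AddCommGroup C] {m : ℕ}
    (ev : A →+ C) (ev' : B →+ C) (a : Fin (m + 1) → A) (b : Fin m → B) (X : C)
    (h : ev (∑ i : Fin (m + 1), (-1 : ℤ) ^ (i : ℕ) • a i) = 0) (h0 : ev (a 0) = X)
    (hi : ∀ i, ev (a i.succ) = ev' (b i)) : ev' (∑ i : Fin m, (-1 : ℤ) ^ (i : ℕ) • b i) = X := by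
  rw [map_sum, Fin.sum_univ_succ, map_zsmul, h0] at h
  have e : ∀ i : Fin m, ev ((-1 : ℤ) ^ ((i.succ : Fin (m + 1)) : ℕ) • a i.succ) =
      -ev' ((-1 : ℤ) ^ (i : ℕ) • b i) := fun i => by
    rw [map_zsmul, map_zsmul, hi, Fin.val_succ, pow_succ, mul_neg_one, neg_smul]
  rw [Finset.sum_congr rfl fun i _ => e i, Finset.sum_neg_distrib, Fin.val_zero, pow_zero, one_smul] at h
  rw [map_sum]
  exact (eq_of_sub_eq_zero ((sub_eq_add_neg _ _).trans h)).symm

/-- A primitive near a point. -/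
theorem exists_primitive_near (hf : FinFib (Over.mk f)) (hsurj : Function.Surjective f) (n : ℕ) (U : Opens S)
    (y : S) (hy : y ∈ U) (x : gGroup F (over (pow f (n + 1)) U)) (hx : ddU F f U (n + 1) x = 0) :
    ∃ (V : Opens S) (_ : y ∈ V) (hVU : V ≤ U) (z : gGroup F (over (pow f n) V)), ddU F f V n z = rU _ hVU x := by
  obtain ⟨a₀, ha₀⟩ := hsurj y
  have hpi : ∀ (k : ℕ) (i : Fin (k + 1)) (w : (pow f k).left),
      f (WidePullback.π (fun _ : Fin (k + 1) => f) i w) = (pow f k).hom w :=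
    fun k i w => ConcreteCategory.congr_hom (WidePullback.π_arrow (fun _ : Fin (k + 1) => f) i) w
  let ext : ∀ k, {w : (pow f k).left // (pow f k).hom w = y} → (Opens.map (pow f (k + 1)).hom).obj U := fun k w =>
    ⟨mkPt f (Fin.cons a₀ fun i => WidePullback.π (fun _ : Fin (k + 1) => f) i w.1) y (fun i => by
      induction i using Fin.cases with
      | zero => exact ha₀
      | succ i => rw [Fin.cons_succ]; exact (hpi k i w.1).trans w.2),
      show _ ∈ U by rw [mkPt_hom]; exact hy⟩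
  have hext : ∀ k w, (over (pow f (k + 1)) U).hom (ext k w) = y := fun k w => mkPt_hom f _ _ _
  obtain ⟨V, hyV, z₀, hz₀⟩ := (finFib_pow f hf n).exists_extend_fibre (F := F) y
    (fun w => x.1 (ext n w) ⟨y, hext n w⟩)
  let z : gGroup F (over (pow f n) (U ⊓ V)) := rU _ inf_le_right z₀
  have hv : ∀ (w : (Opens.map (pow f (n + 1)).hom).obj (U ⊓ V)) (e : (over (pow f (n + 1)) (U ⊓ V)).hom w = y),
      (ddU F f (U ⊓ V) n z - rU _ inf_le_left x).1 w ⟨y, e⟩ = 0 := by
    intro w e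
    let wU : (Opens.map (pow f (n + 1)).hom).obj U := ⟨w.1, w.2.1⟩
    let q : (Opens.map (pow f (n + 1 + 1)).hom).obj U := ext (n + 1) ⟨w.1, e⟩
    let ev : gGroup F (over (pow f (n + 1 + 1)) U) →+ St F y :=
      AddMonoidHom.mk' (fun σ => σ.1 q ⟨y, hext (n + 1) ⟨w.1, e⟩⟩) (fun _ _ => rfl)
    let ev' : gGroup F (over (pow f (n + 1)) (U ⊓ V)) →+ St F y :=
      AddMonoidHom.mk' (fun σ => σ.1 w ⟨y, e⟩) (fun _ _ => rfl)
    have hc : ev (∑ i : Fin (n + 1 + 2), (-1 : ℤ) ^ (i : ℕ) •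
        ((gU F U).map (powMap f i.succAbove).op x : gGroup F (over (pow f (n + 1 + 1)) U))) = 0 :=
      (congrArg ev ((dd_apply f (gU F U) (n + 1) x).symm.trans hx)).trans (map_zero ev)
    have h0 : ev ((gU F U).map (powMap f (0 : Fin (n + 1 + 2)).succAbove).op x : gGroup F (over (pow f (n + 1 + 1)) U)) =
        x.1 wU ⟨y, e⟩ := by
      refine Partial.congr x _ _ (Subtype.ext (wp_ext f _ _ fun i => ?_))
      refine (π_powMap f _ i q.1).trans ((mkPt_π f _ y _ _).trans ?_)
      rw [Fin.succAbove_zero, Fin.cons_succ]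
    have hi : ∀ i : Fin (n + 2),
        ev ((gU F U).map (powMap f i.succ.succAbove).op x : gGroup F (over (pow f (n + 1 + 1)) U)) =
          ev' ((gU F (U ⊓ V)).map (powMap f i.succAbove).op z : gGroup F (over (pow f (n + 1)) (U ⊓ V))) := by
      intro i
      have ew : (pow f n).hom ((powMap f i.succAbove).left w.1) = y :=
        (ConcreteCategory.congr_hom (Over.w (powMap f i.succAbove)) w.1).trans e
      refine Eq.trans ?_ (hz₀ ⟨(powMap f i.succAbove).left w.1, show _ ∈ V by rw [ew]; exact hyV⟩ ew).symm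
      refine Partial.congr x _ _ (Subtype.ext (wp_ext f _ _ fun j => ?_))
      refine (π_powMap f _ j q.1).trans ((mkPt_π f _ y _ _).trans ((Eq.trans ?_ (mkPt_π f _ y _ j).symm)))
      induction j using Fin.cases with
      | zero => rw [Fin.succ_succAbove_zero, Fin.cons_zero, Fin.cons_zero]
      | succ j => rw [Fin.succ_succAbove_succ, Fin.cons_succ, Fin.cons_succ, π_powMap]
    have key : ev' (∑ i : Fin (n + 2), (-1 : ℤ) ^ (i : ℕ) •
        ((gU F (U ⊓ V)).map (powMap f i.succAbove).op z : gGroup F (over (pow f (n + 1)) (U ⊓ V)))) =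
        x.1 wU ⟨y, e⟩ := alt_sum_shift ev ev' _ _ _ hc h0 hi
    have hd : ev' (ddU F f (U ⊓ V) n z) = x.1 wU ⟨y, e⟩ :=
      (congrArg ev' (dd_apply f (gU F (U ⊓ V)) n z)).trans key
    show ev' (ddU F f (U ⊓ V) n z) - x.1 wU ⟨y, e⟩ = 0
    exact sub_eq_zero.2 hd
  obtain ⟨V', hyV', hle, hz⟩ := (finFib_pow f hf (n + 1)).exists_vanish (U ⊓ V) y ⟨hy, hyV⟩ _ hv
  refine ⟨V', hyV', hle.trans inf_le_left, rU _ hle z, ?_⟩
  rw [← rU_ddU]
  rw [map_sub, sub_eq_zero] at hz
  exact hz.trans rfl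

end Groth.Agent.TopDescent

end
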