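import Groth.Agent.TopDescent.TotalInjective
import Groth.Agent.TopDescent.Fibre
import Groth.Agent.TopDescent.ResolutionSS

/-!
# The Cech functor on the total site
-/

set_option autoImplicit false

universe u

open CategoryTheory CategoryTheory.Limits TopologicalSpace Opposite Topology Filter

noncomputable section

namespace Groth.Agent.TopDescent

open EtDescSplit (pow powMap)
open SpObjSS (hZero)

variable {S X : TopCat.{u}}

/-- Fibre powers of a proper map with separated fibres. -/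
theorem PropSep.pow {f : X ⟶ S} (hf : PropSep f) (n : ℕ) : PropSep (EtDescSplit.pow f n).hom where
  proper := by
    rw [isProperMap_iff_ultrafilter]
    refine ⟨(EtDescSplit.pow f n).hom.hom.continuous, fun 𝒰 y hy => ?_⟩
    have hπ : ∀ (i : Fin (n + 1)) z, f (WidePullback.π (fun _ : Fin (n + 1) => f) i z) = (EtDescSplit.pow f n).hom z :=
      fun i z => ConcreteCategory.congr_hom (WidePullback.π_arrow (fun _ : Fin (n + 1) => f) i) z
    have h : ∀ i : Fin (n + 1), ∃ a, f a = y ∧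
        Tendsto (fun z : (EtDescSplit.pow f n).left => WidePullback.π (fun _ : Fin (n + 1) => f) i z)
          (𝒰 : Filter (EtDescSplit.pow f n).left) (𝓝 a) := fun i => by
      obtain ⟨a, ha, hle⟩ := hf.proper.ultrafilter_le_nhds_of_tendsto
        (𝒰 := 𝒰.map fun z => WidePullback.π (fun _ : Fin (n + 1) => f) i z)
        (y := y) ((tendsto_map'_iff).2 (hy.congr fun z => (hπ i z).symm))
      exact ⟨a, ha, hle⟩
    choose a ha hle using h
    refine ⟨mkPt f a y ha, mkPt_hom f _ _ _, le_trans (le_iInf fun i => ?_) (nhds_pow f _)⟩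
    rw [← Filter.map_le_iff_le_comap, mkPt_π]
    exact hle i
  sep w w' he hne := by
    obtain ⟨i, hi⟩ : ∃ i, WidePullback.π (fun _ : Fin (n + 1) => f) i w ≠
        WidePullback.π (fun _ : Fin (n + 1) => f) i w' := by
      by_contra h
      push Not at h
      exact hne (wp_ext f _ _ h)
    have hπ : ∀ z, f (WidePullback.π (fun _ : Fin (n + 1) => f) i z) = (EtDescSplit.pow f n).hom z :=
      fun z => ConcreteCategory.congr_hom (WidePullback.π_arrow (fun _ : Fin (n + 1) => f) i) z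
    obtain ⟨U, V, hU, hV, hw, hw', hd⟩ := hf.sep _ _ ((hπ w).trans (he.trans (hπ w').symm)) hi
    exact ⟨_, _, hU.preimage (WidePullback.π (fun _ : Fin (n + 1) => f) i).hom.continuous,
      hV.preimage (WidePullback.π (fun _ : Fin (n + 1) => f) i).hom.continuous, hw, hw', hd.preimage _⟩

/-- A complex of sheaves whose sections are exact is exact. -/
theorem exactAt_of_sections (K : CochainComplex (CohTop.Ab S) ℕ) (n : ℕ)
    (h : ∀ (U : Opens S) (x : (K.X (n + 1)).obj.obj (op U)),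
      (K.d (n + 1) (n + 1 + 1)).hom.app (op U) x = 0 → ∃ z, (K.d n (n + 1)).hom.app (op U) z = x) :
    K.ExactAt (n + 1) := by
  rw [HomologicalComplex.exactAt_iff' _ n (n + 1) (n + 1 + 1) (by simp) (by simp)]
  refine (TopCat.Sheaf.exact_iff_stalkFunctor_map_exact _).2 fun y => ?_
  rw [ShortComplex.ab_exact_iff]
  intro g hg
  let g' : TopCat.Presheaf.stalk (C := AddCommGrpCat.{u}) (K.X (n + 1)).obj y := g
  obtain ⟨U, hy, x, hx⟩ := TopCat.Presheaf.exists_germ_eq (F := (K.X (n + 1)).obj) g'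
  have hg' : (TopCat.Presheaf.stalkFunctor AddCommGrpCat.{u} y).map (K.d (n + 1) (n + 1 + 1)).hom g' = 0 := hg
  rw [← hx] at hg'
  replace hg' := (TopCat.Presheaf.stalkFunctor_map_germ_apply U y hy (K.d (n + 1) (n + 1 + 1)).hom x).symm.trans hg'
  obtain ⟨U', hy', i, j, he⟩ := TopCat.Presheaf.germ_eq (K.X (n + 1 + 1)).obj y hy hy _ 0
    (hg'.trans (map_zero _).symm)
  have hx' : (K.d (n + 1) (n + 1 + 1)).hom.app (op U') ((K.X (n + 1)).obj.map i.op x) = 0 :=
    ((ConcreteCategory.congr_hom ((K.d (n + 1) (n + 1 + 1)).hom.naturality i.op) x).trans he).trans (map_zero _)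
  obtain ⟨z, hz⟩ := h U' _ hx'
  refine ⟨TopCat.Presheaf.germ (K.X n).obj U' y hy' z, ?_⟩
  show (TopCat.Presheaf.stalkFunctor AddCommGrpCat.{u} y).map (K.d n (n + 1)).hom _ = g'
  refine (TopCat.Presheaf.stalkFunctor_map_germ_apply U' y hy' (K.d n (n + 1)).hom z).trans ?_
  refine (congrArg (TopCat.Presheaf.germ (K.X (n + 1)).obj U' y hy') hz).trans ?_
  exact (TopCat.Presheaf.germ_res_apply (F := (K.X (n + 1)).obj) i y hy' x).trans hx

variable (f : X ⟶ S)

/-- The cosimplicial sheaf of direct images. -/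
abbrev cechSys : Sheaf (totTop f) AddCommGrpCat.{u} ⥤ (SimplexCategory ⥤ CohTop.Ab S) :=
  pushSys f ⋙ (Functor.whiskeringLeft SimplexCategory (BaseC f)ᵒᵖ (CohTop.Ab S)).obj (tPow f).rightOp

/-- The alternating coface complex. -/
def accS (S : TopCat.{u}) : (SimplexCategory ⥤ CohTop.Ab S) ⥤ CochainComplex (CohTop.Ab S) ℕ :=
  AlgebraicTopology.alternatingCofaceMapComplex (CohTop.Ab S)

instance : (accS S).Additive where
  map_add {X Y φ ψ} := HomologicalComplex.hom_ext _ _ fun n => rfl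

/-- The Cech complex of sheaves. -/
abbrev cechK : Sheaf (totTop f) AddCommGrpCat.{u} ⥤ CochainComplex (CohTop.Ab S) ℕ :=
  cechSys f ⋙ accS S

theorem cechK_d (G : Sheaf (totTop f) AddCommGrpCat.{u}) (n : ℕ) (U : Opens S)
    (x : G.obj.obj (op (obP f n U))) :
    (((cechK f).obj G).d n (n + 1)).hom.app (op U) x = ddT f G.obj U x := by
  let c := (cechSys f).obj G
  have hd : ((cechK f).obj G).d n (n + 1) = AlgebraicTopology.AlternatingCofaceMapComplex.objD c n := by
    dsimp only [cechK, accS, Functor.comp_obj, AlgebraicTopology.alternatingCofaceMapComplex,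
      AlgebraicTopology.AlternatingCofaceMapComplex.obj]
    exact CochainComplex.of_d _ _ _
  let ev : (c.obj ⟨n⟩ ⟶ c.obj ⟨n + 1⟩) →+ G.obj.obj (op (obP f (n + 1) U)) :=
    AddMonoidHom.mk' (fun φ => φ.hom.app (op U) x) (fun _ _ => rfl)
  show ev (((cechK f).obj G).d n (n + 1)) = _
  rw [hd]
  unfold AlgebraicTopology.AlternatingCofaceMapComplex.objD
  refine (map_sum ev _ _).trans (Finset.sum_congr rfl fun i _ => (map_zsmul ev _ _).trans ?_)
  rfl

/-- Injective sheaves have exact Cech complexes. -/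
theorem exactAt_cechK_injective (I : Sheaf (totTop f) AddCommGrpCat.{u}) [Injective I] (n : ℕ) :
    ((cechK f).obj I).ExactAt (n + 1) := by
  refine exactAt_of_sections _ n fun U x hx => ?_
  obtain ⟨z, hz⟩ := exists_primitive_injective I U x ((cechK_d f I (n + 1) U x).symm.trans hx)
  exact ⟨z, (cechK_d f I n U z).trans hz⟩

/-- The cycles of injective sheaves are flasque. -/
theorem isFlasque_hZero_injective (I : Sheaf (totTop f) AddCommGrpCat.{u}) [Injective I] :
    TopCat.Sheaf.IsFlasque ((cechK f ⋙ hZero (𝟭 (CochainComplex (CohTop.Ab S) ℕ))).obj I) where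
  epi {N M} h := by
    let K := (cechK f).obj I
    haveI : IsIso (K.homologyπ 0) := isIso_π₀ K
    have hker := fun W : Opens S => KernelFork.mapIsLimit _ (K.cyclesIsKernel 0 (0 + 1) (by simp))
      (sheafToPresheaf (Opens.grothendieckTopology S) AddCommGrpCat.{u} ⋙
        (evaluation (Opens S)ᵒᵖ AddCommGrpCat.{u}).obj (op W))
    haveI : Epi ((K.cycles 0).obj.map h) := by
      rw [AddCommGrpCat.epi_iff_surjective]
      intro z
      let x : I.obj.obj (op (obP f 0 M.unop)) := (K.iCycles 0).hom.app M z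
      have hx : ddT f I.obj M.unop x = 0 :=
        (cechK_d f I 0 M.unop x).symm.trans
          (ConcreteCategory.congr_hom (congrArg (fun m => m.hom.app M) (K.iCycles_d 0 (0 + 1))) z)
      obtain ⟨y, hy, hyx⟩ := exists_extend_cocycle I (leOfHom h.unop) x hx
      let l : AddCommGrpCat.of (ULift.{u} ℤ) ⟶ (K.X 0).obj.obj N :=
        AddCommGrpCat.ofHom ((zmultiplesHom (I.obj.obj (op (obP f 0 N.unop))) y).comp
          AddEquiv.ulift.toAddMonoidHom)
      have hl : l ≫ (K.d 0 (0 + 1)).hom.app N = 0 := by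
        refine AddCommGrpCat.hom_ext (AddMonoidHom.ext fun k => ?_)
        show (K.d 0 (0 + 1)).hom.app N (k.down • y) = 0
        refine (map_zsmul ((K.d 0 (0 + 1)).hom.app N).hom _ _).trans ?_
        exact (congrArg (k.down • ·) ((cechK_d f I 0 N.unop y).trans hy)).trans (smul_zero _)
      obtain ⟨l', hl'⟩ := KernelFork.IsLimit.lift' (hker N.unop) l hl
      refine ⟨l' ⟨1⟩, ?_⟩
      have hm : Function.Injective ((K.iCycles 0).hom.app M) :=
        (AddCommGrpCat.mono_iff_injective _).1 (Fork.IsLimit.mono (hker M.unop))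
      refine hm ?_
      refine (ConcreteCategory.congr_hom ((K.iCycles 0).hom.naturality h) (l' ⟨1⟩)).trans ?_
      refine (congrArg ((K.X 0).obj.map h) ((ConcreteCategory.congr_hom hl' ⟨1⟩).trans (one_zsmul y))).trans ?_
      exact hyx
    show Epi ((K.homology 0).obj.map h)
    have hn := (K.homologyπ 0).hom.naturality h
    haveI : Epi ((K.homologyπ 0).hom.app M) :=
      inferInstanceAs (Epi (((sheafToPresheaf _ AddCommGrpCat.{u}) ⋙ (evaluation _ _).obj M).map (K.homologyπ 0)))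
    haveI : Epi ((K.homologyπ 0).hom.app N ≫ (K.homology 0).obj.map h) := by
      rw [← hn]; exact epi_comp _ _
    exact epi_of_epi ((K.homologyπ 0).hom.app N) _

variable {f} (F : CohTop.Ab S)

/-- The augmentation. -/
def cechAug : F ⟶ ((cechK f).obj (gT f F)).X 0 :=
  ⟨{ app := fun U => (gEta F (pow f 0)).hom.app U
     naturality := fun U U' i => (gEta F (pow f 0)).hom.naturality i }⟩

theorem cechAug_d : cechAug (f := f) F ≫ ((cechK f).obj (gT f F)).d 0 1 = 0 := by
  refine CategoryTheory.Sheaf.hom_ext (NatTrans.ext (funext fun U => ?_))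
  ext t
  refine (cechK_d f (gT f F) 0 U.unop _).trans ((Fin.sum_univ_two _).trans ?_)
  simp only [Fin.val_zero, pow_zero, one_smul, Fin.val_one, pow_one, neg_smul]
  exact add_neg_cancel _

/-- A point of a fibre power, on the total site. -/
def pointT {y : S} {U : Opens S} (hy : y ∈ U) (w : (pow f 0).left) (hw : (pow f 0).hom w = y) :
    mkT f (TIdx.pt y) ⊤ ⟶ obP f 0 U :=
  InducedCategory.homMk (Over.homMk
    (TopCat.ofHom ⟨fun _ => (⟨w, show (pow f 0).hom w ∈ U from hw.symm ▸ hy⟩ :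
      ((Opens.map (pow f 0).hom).obj U : Opens _)), continuous_const⟩)
    (TopCat.hom_ext (ContinuousMap.ext fun _ => hw)))

theorem cechAug_exact (hf : PropSep f) (hsurj : Function.Surjective f) :
    (ShortComplex.mk (cechAug (f := f) F) (((cechK f).obj (gT f F)).d 0 1) (cechAug_d F)).Exact := by
  let K := (cechK f).obj (gT f F)
  refine (TopCat.Sheaf.exact_iff_stalkFunctor_map_exact _).2 fun y => ?_
  rw [ShortComplex.ab_exact_iff]
  intro g hg
  let g' : TopCat.Presheaf.stalk (C := AddCommGrpCat.{u}) (K.X 0).obj y := g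
  obtain ⟨U, hy, x, hx⟩ := TopCat.Presheaf.exists_germ_eq (F := (K.X 0).obj) g'
  have hg' : (TopCat.Presheaf.stalkFunctor AddCommGrpCat.{u} y).map (K.d 0 (0 + 1)).hom g' = 0 := hg
  rw [← hx] at hg'
  replace hg' := (TopCat.Presheaf.stalkFunctor_map_germ_apply U y hy (K.d 0 (0 + 1)).hom x).symm.trans hg'
  obtain ⟨U', hy', i, j, he⟩ := TopCat.Presheaf.germ_eq (K.X (0 + 1)).obj y hy hy _ 0
    (hg'.trans (map_zero _).symm)
  let x' : gGroup F (tObj f (obP f 0 U')) := (K.X 0).obj.map i.op x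
  have hx' : ddT f (gT f F).obj U' x' = 0 :=
    (cechK_d f (gT f F) 0 U' x').symm.trans
      (((ConcreteCategory.congr_hom ((K.d 0 (0 + 1)).hom.naturality i.op) x).trans he).trans (map_zero _))
  obtain ⟨a₀, ha₀⟩ := hsurj y
  let w₀ : (pow f 0).left := mkPt f (fun _ : Fin (0 + 1) => a₀) y (fun _ => ha₀)
  obtain ⟨U₁, hy₁, t, ht⟩ := TopCat.Presheaf.exists_germ_eq (F := F.obj)
    (x'.1 ⟨w₀, show (pow f 0).hom w₀ ∈ U' by rw [mkPt_hom]; exact hy'⟩ ⟨y, mkPt_hom f _ _ _⟩)
  let U₂ : Opens S := U' ⊓ U₁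
  let t' := F.obj.map (homOfLE (inf_le_right : U₂ ≤ U₁)).op t
  let δ : gGroup F (tObj f (obP f 0 U₂)) :=
    (cechAug (f := f) F).hom.app (op U₂) t' - (K.X 0).obj.map (homOfLE (inf_le_left : U₂ ≤ U')).op x'
  have hδ : ∀ (w : (tObj f (obP f 0 U₂)).left), (pow f 0).hom w.1 = y →
      ∀ (z : S) (e : (tObj f (obP f 0 U₂)).hom w = z), δ.1 w ⟨z, e⟩ = 0 := by
    intro w hw z e
    obtain rfl : y = z := hw.symm.trans e
    show gm F y _ t' - x'.1 ⟨w.1, w.2.1⟩ ⟨y, e⟩ = 0
    rw [gm_res F inf_le_right y _ t, sub_eq_zero]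
    refine ht.trans ?_
    exact congrFun (congrFun (congrArg Subtype.val (map_eq_of_cocycle (gT f F).obj U' x' hx'
      (pointT hy' w₀ (mkPt_hom f _ _ _)) (pointT hy' w.1 hw))) ⟨PUnit.unit, trivial⟩) ⟨y, rfl⟩
  let O : Set (pow f 0).left := {z | ∃ (M : Opens (pow f 0).left), z ∈ M ∧
    ∀ (w : (tObj f (obP f 0 U₂)).left), w.1 ∈ M →
      ∀ (v : S) (e : (tObj f (obP f 0 U₂)).hom w = v), δ.1 w ⟨v, e⟩ = 0}
  have hO : IsOpen O := isOpen_iff_forall_mem_open.2 fun z ⟨M, hzM, hM⟩ =>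
    ⟨M, fun b hb => ⟨M, hb, hM⟩, M.isOpen, hzM⟩
  have hfib : (pow f 0).hom ⁻¹' {y} ⊆ O := by
    intro z hz
    have hz₂ : (pow f 0).hom z ∈ U₂ := (show (pow f 0).hom z = y from hz).symm ▸ (⟨hy', hy₁⟩ : y ∈ U₂)
    obtain ⟨U₃, hU₃, s, hs⟩ := δ.2 ⟨z, hz₂⟩
    obtain ⟨M₃, hM₃, hM₃o, hzM₃⟩ := eventually_nhds_iff.1 hs
    have h0 : gm F ((pow f 0).hom z) hU₃ s = 0 :=
      (hM₃ ⟨z, hz₂⟩ hzM₃ _ rfl hU₃).symm.trans (hδ ⟨z, hz₂⟩ hz _ rfl)
    obtain ⟨U₄, hU₄, i', j', hres⟩ := TopCat.Presheaf.germ_eq F.obj _ hU₃ hU₃ s 0 (h0.trans (map_zero _).symm)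
    rw [map_zero] at hres
    refine ⟨⟨Subtype.val '' M₃ ∩ (pow f 0).hom ⁻¹' (U₄ : Set S),
      (((Opens.map (pow f 0).hom).obj U₂).isOpen.isOpenEmbedding_subtypeVal.isOpenMap _ hM₃o).inter
        (U₄.isOpen.preimage (pow f 0).hom.hom.continuous)⟩, ⟨⟨⟨z, hz₂⟩, hzM₃, rfl⟩, hU₄⟩, ?_⟩
    rintro w ⟨⟨w', hw', hww⟩, hwU⟩ v e
    obtain rfl : w' = w := Subtype.ext hww
    have hv₄ : v ∈ U₄ := e ▸ hwU
    rw [hM₃ w' hw' v e (leOfHom i' hv₄)]
    refine (TopCat.Presheaf.germ_res_apply (F := F.obj) i' v hv₄ s).symm.trans ?_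
    rw [hres]
    exact map_zero _
  obtain ⟨V, hyV, hV⟩ := (hf.pow 0).exists_tube y ⟨O, hO⟩ hfib
  refine ⟨TopCat.Presheaf.germ F.obj U₂ y ⟨hy', hy₁⟩ t', ?_⟩
  show (TopCat.Presheaf.stalkFunctor AddCommGrpCat.{u} y).map (cechAug (f := f) F).hom _ = g'
  refine (TopCat.Presheaf.stalkFunctor_map_germ_apply U₂ y ⟨hy', hy₁⟩ (cechAug (f := f) F).hom t').trans ?_
  refine (TopCat.Presheaf.germ_ext (K.X 0).obj (U₂ ⊓ V) (⟨⟨hy', hy₁⟩, hyV⟩ : y ∈ U₂ ⊓ V) (homOfLE inf_le_left)
    (homOfLE (inf_le_left.trans (inf_le_left.trans (leOfHom i)))) ?_).trans hx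
  refine Subtype.ext (funext fun w => funext fun ⟨v, e⟩ => ?_)
  obtain ⟨M, hwM, hM⟩ := hV (show w.1 ∈ (Opens.map (pow f 0).hom).obj V from w.2.2)
  exact sub_eq_zero.1 (hM ⟨w.1, w.2.1⟩ hwM v e)

theorem mono_cechAug (hsurj : Function.Surjective f) : Mono (cechAug (f := f) F) := by
  haveI : ∀ U, Mono ((cechAug (f := f) F).hom.app U) := fun U => by
    rw [AddCommGrpCat.mono_iff_injective]
    intro a b h
    refine TopCat.Presheaf.section_ext F U.unop a b fun y hy => ?_
    obtain ⟨x₀, rfl⟩ := hsurj y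
    exact congrFun (congrFun (congrArg Subtype.val h)
      ⟨mkPt f (fun _ : Fin (0 + 1) => x₀) (f x₀) (fun _ => rfl),
        show (pow f 0).hom _ ∈ U.unop by rw [mkPt_hom]; exact hy⟩)
      ⟨f x₀, mkPt_hom f _ _ _⟩
  haveI : Mono (cechAug (f := f) F).hom := NatTrans.mono_of_mono_app _
  exact (sheafToPresheaf _ _).mono_of_mono_map (f := cechAug (f := f) F) ‹_›

/-- The degree zero cycles of the germ families are the sheaf itself. -/
theorem nonempty_cechK_gT_homology_zero (hf : PropSep f) (hsurj : Function.Surjective f) :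
    Nonempty (((cechK f).obj (gT f F)).homology 0 ≅ F) := by
  haveI := mono_cechAug (f := f) F hsurj
  let K := (cechK f).obj (gT f F)
  exact ⟨(zeroIso K).symm ≪≫
    (K.cyclesIsKernel 0 1 (by simp)).conePointUniqueUpToIso (cechAug_exact F hf hsurj).fIsKernel⟩

end Groth.Agent.TopDescent

end
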