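import Groth.Agent.TopDescent.TotalCech
import Groth.Agent.TopDescent.AcyclicQuasiIso
import Groth.Agent.TopDescent.HFunctor

/-!
# Stalks of the Cech system of a proper map and its fibres
-/

set_option autoImplicit false

universe u

open CategoryTheory CategoryTheory.Limits TopologicalSpace Opposite Topology Filter

noncomputable section

namespace Groth.Agent.TopDescent

open EtDescSplit (pow powMap)
open SpObjSS (secAt)

variable {S X : TopCat.{u}} (f : X ⟶ S) (y : S) (n : ℕ)

/-- The fibre of a fibre power, inside it. -/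
def fibι : (tBase f (TIdx.fib y n)).left ⟶ (tBase f (TIdx.pw n)).left := (fib (pow f n).hom y).hom

/-- The inclusion over an open. -/
def fibJ (N : Opens (tBase f (TIdx.pw n)).left) :
    mkT f (TIdx.fib y n) ((Opens.map (fibι f y n)).obj N) ⟶ mkT f (TIdx.pw n) N :=
  InducedCategory.homMk (Over.homMk
    (TopCat.ofHom ⟨fun q => (⟨fibι f y n q.1, q.2⟩ : N),
      ((fibι f y n).hom.continuous.comp continuous_subtype_val).subtype_mk _⟩)
    (TopCat.hom_ext (ContinuousMap.ext fun _ => rfl)))

/-- Restriction to the fibre. -/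
def fibRho : rF f (TIdx.pw n) ⟶ rF f (TIdx.fib y n) ⋙ CohTop.push (fibι f y n) where
  app G := ⟨{
    app := fun N => G.obj.map (fibJ f y n N.unop).op
    naturality := fun N N' h => by
      show G.obj.map _ ≫ G.obj.map _ = G.obj.map _ ≫ G.obj.map _
      rw [← Functor.map_comp, ← Functor.map_comp]
      exact congrArg G.obj.map (Quiver.Hom.unop_inj (tot_ext fun _ => rfl)) }⟩
  naturality G G' φ := CategoryTheory.Sheaf.hom_ext (NatTrans.ext (funext fun N => (φ.hom.naturality _).symm))

/-- The comparison of restrictions. -/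
def fibBeta : rF f (TIdx.pw n) ⋙ CohTop.pull (fibι f y n) ⟶ rF f (TIdx.fib y n) where
  app G := ((TopCat.Sheaf.pullbackPushforwardAdjunction AddCommGrpCat.{u} (fibι f y n)).homEquiv _ _).symm
    ((fibRho f y n).app G)
  naturality G G' φ := by
    refine ((TopCat.Sheaf.pullbackPushforwardAdjunction AddCommGrpCat.{u} (fibι f y n)).homEquiv _ _).injective ?_
    refine ((TopCat.Sheaf.pullbackPushforwardAdjunction AddCommGrpCat.{u} (fibι f y n)).homEquiv_naturality_left
      ((rF f (TIdx.pw n)).map φ) _).trans (Eq.trans ?_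
        ((TopCat.Sheaf.pullbackPushforwardAdjunction AddCommGrpCat.{u} (fibι f y n)).homEquiv_naturality_right _
          ((rF f (TIdx.fib y n)).map φ)).symm)
    rw [Equiv.apply_symm_apply, Equiv.apply_symm_apply]
    exact (fibRho f y n).naturality φ

theorem fibBeta_unit (G : Sheaf (totTop f) AddCommGrpCat.{u}) (N : Opens (tBase f (TIdx.pw n)).left)
    (s : G.obj.obj (op (mkT f (TIdx.pw n) N))) :
    ((fibBeta f y n).app G).hom.app (op ((Opens.map (fibι f y n)).obj N))
      (((TopCat.Sheaf.pullbackPushforwardAdjunction AddCommGrpCat.{u} (fibι f y n)).unit.app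
        ((rF f (TIdx.pw n)).obj G)).hom.app (op N) s) = G.obj.map (fibJ f y n N).op s := by
  have h := ((TopCat.Sheaf.pullbackPushforwardAdjunction AddCommGrpCat.{u} (fibι f y n)).homEquiv _ _).apply_symm_apply
    ((fibRho f y n).app G)
  rw [Adjunction.homEquiv_unit] at h
  exact ConcreteCategory.congr_hom (congrArg (fun m => m.hom.app (op N)) h) s

variable (F : CohTop.Ab S)

theorem isIso_fibBeta_gT : IsIso ((fibBeta f y n).app (gT f F)) := by
  let P := (rF f (TIdx.fib y n)).obj (gT f F)
  let W := tBase f (TIdx.pw n)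
  let Q := (rF f (TIdx.pw n)).obj (gT f F)
  have : ∀ w : (tBase f (TIdx.fib y n)).left,
      IsIso ((TopCat.Presheaf.stalkFunctor AddCommGrpCat.{u} w).map ((fibBeta f y n).app (gT f F)).hom) := by
    intro w
    have img : ∀ (N : Opens W.left) (hN : fibι f y n w ∈ N) (s : Q.obj.obj (op N)),
        (TopCat.Presheaf.stalkFunctor AddCommGrpCat.{u} w).map ((fibBeta f y n).app (gT f F)).hom
          (TopCat.Presheaf.germ ((CohTop.pull (fibι f y n)).obj Q).obj ((Opens.map (fibι f y n)).obj N) w hN
            (((TopCat.Sheaf.pullbackPushforwardAdjunction AddCommGrpCat.{u} (fibι f y n)).unit.app Q).hom.app (op N) s)) =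
        TopCat.Presheaf.germ P.obj ((Opens.map (fibι f y n)).obj N) w hN ((gT f F).obj.map (fibJ f y n N).op s) :=
      fun N hN s => (TopCat.Presheaf.stalkFunctor_map_germ_apply _ w hN ((fibBeta f y n).app (gT f F)).hom _).trans
        (congrArg _ (fibBeta_unit f y n (gT f F) N s))
    refine (ConcreteCategory.isIso_iff_bijective _).2
      ⟨(injective_iff_map_eq_zero
        ((TopCat.Presheaf.stalkFunctor AddCommGrpCat.{u} w).map ((fibBeta f y n).app (gT f F)).hom).hom).2
        fun t ht => ?_, fun t => ?_⟩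
    · obtain ⟨N, hN, σ, rfl⟩ := exists_unit_germ (F := Q) (Over.mk (fibι f y n)) w t
      have h0 := (img N hN σ).symm.trans ht
      have hv : (σ : gGroup F (opn W N)).1 ⟨fibι f y n w, hN⟩ ⟨W.hom (fibι f y n w), rfl⟩ = 0 := by
        have h1 := (congrArg (gStalk (F := F) (tBase f (TIdx.fib y n)) w) h0).trans (map_zero (gStalk (F := F) (tBase f (TIdx.fib y n)) w).hom)
        exact (gStalk_germ_apply (tBase f (TIdx.fib y n)) w ((Opens.map (fibι f y n)).obj N) hN _).symm.trans h1
      have hg : TopCat.Presheaf.germ (gPsh F W) N (fibι f y n w) hN σ = 0 := by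
        refine gStalk_injective W (fibι f y n w) ?_
        exact ((gStalk_germ_apply W _ N hN σ).trans hv).trans (map_zero _).symm
      obtain ⟨N', hN', i, j, hσ⟩ := TopCat.Presheaf.germ_eq Q.obj (fibι f y n w)
        (show fibι f y n w ∈ N from hN) (show fibι f y n w ∈ N from hN) σ 0 (hg.trans (map_zero _).symm)
      rw [map_zero] at hσ
      let u := ((TopCat.Sheaf.pullbackPushforwardAdjunction AddCommGrpCat.{u} (fibι f y n)).unit.app Q).hom
      have hn := ConcreteCategory.congr_hom (u.naturality i.op) σ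
      refine (TopCat.Presheaf.germ_res_apply (F := ((CohTop.pull (fibι f y n)).obj Q).obj)
        ((Opens.map (fibι f y n)).map i) w hN' (u.app (op N) σ)).symm.trans ?_
      refine (congrArg _ (hn.symm.trans (congrArg (u.app (op N')) hσ))).trans ?_
      exact (congrArg _ (map_zero (u.app (op N')).hom)).trans (map_zero _)
    · obtain ⟨U, hU, s, hs⟩ := TopCat.Presheaf.exists_germ_eq (F := F.obj)
        (gStalk (F := F) (tBase f (TIdx.fib y n)) w t)
      let N : Opens W.left := (Opens.map W.hom).obj U
      have hN : fibι f y n w ∈ N := hU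
      let σ : gGroup F (opn W N) := ((gEta F W).hom.app (op U) s)
      refine ⟨TopCat.Presheaf.germ ((CohTop.pull (fibι f y n)).obj Q).obj ((Opens.map (fibι f y n)).obj N) w hN
        (((TopCat.Sheaf.pullbackPushforwardAdjunction AddCommGrpCat.{u} (fibι f y n)).unit.app Q).hom.app (op N) σ),
        (img N hN σ).trans ?_⟩
      refine gStalk_injective (tBase f (TIdx.fib y n)) w ?_
      exact (gStalk_germ_apply (tBase f (TIdx.fib y n)) w ((Opens.map (fibι f y n)).obj N) hN _).trans hs
  exact TopCat.Presheaf.isIso_of_stalkFunctor_map_iso ((fibBeta f y n).app (gT f F))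

/-- Sections over the fibre. -/
abbrev secFib : CohTop.Ab (tBase f (TIdx.fib y n)).left ⥤ AddCommGrpCat.{u} :=
  secAt (Opens.grothendieckTopology (tBase f (TIdx.fib y n)).left) ⊤

/-- Stalks of the direct image of one level. -/
abbrev stalkLevel : Sheaf (totTop f) AddCommGrpCat.{u} ⥤ AddCommGrpCat.{u} :=
  rF f (TIdx.pw n) ⋙ CohTop.push (pow f n).hom ⋙ stk y

instance : (stk y).Additive :=
  inferInstanceAs (TopCat.Sheaf.forget AddCommGrpCat.{u} S ⋙ TopCat.Presheaf.stalkFunctor AddCommGrpCat.{u} y).Additive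

instance : (stalkLevel f y n).Additive := inferInstance

/-- The fibre inside a fibre power over an open. -/
def fibToPow (U : Opens S) (hy : y ∈ U) : mkT f (TIdx.fib y n) ⊤ ⟶ obP f n U :=
  InducedCategory.homMk (Over.homMk
    (TopCat.ofHom ⟨fun q => (⟨fibι f y n q.1, show (pow f n).hom q.1.1 ∈ U from
      (show (pow f n).hom q.1.1 = y from q.1.2).symm ▸ hy⟩ : ((Opens.map (pow f n).hom).obj U : Opens _)),
      ((fibι f y n).hom.continuous.comp continuous_subtype_val).subtype_mk _⟩)
    (TopCat.hom_ext (ContinuousMap.ext fun _ => rfl)))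

/-- The cocone of restrictions to the fibre. -/
def toFibCocone (G : Sheaf (totTop f) AddCommGrpCat.{u}) :
    Cocone ((OpenNhds.inclusion y).op ⋙ ((CohTop.push (pow f n).hom).obj ((rF f (TIdx.pw n)).obj G)).obj) where
  pt := G.obj.obj (op (mkT f (TIdx.fib y n) ⊤))
  ι :=
    { app := fun U => G.obj.map (fibToPow f y n U.unop.1 U.unop.2).op
      naturality := fun U U' i => by
        show G.obj.map _ ≫ G.obj.map _ = G.obj.map _ ≫ 𝟙 _
        rw [← Functor.map_comp, Category.comp_id]
        exact congrArg G.obj.map (Quiver.Hom.unop_inj (tot_ext fun _ => rfl)) }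

/-- Restriction to the fibre. -/
def toFibT : stalkLevel f y n ⟶ rF f (TIdx.fib y n) ⋙ secFib f y n where
  app G := colimit.desc _ (toFibCocone f y n G)
  naturality G G' φ := by
    refine colimit.hom_ext fun U => ?_
    refine (colimit.ι_map_assoc _ U _).trans ?_
    refine ((congrArg (_ ≫ ·) (colimit.ι_desc (toFibCocone f y n G') U)).trans ?_)
    refine Eq.trans ?_ (colimit.ι_desc_assoc (toFibCocone f y n G) U _).symm
    exact (φ.hom.naturality _).symm

theorem toFibT_eq (G : Sheaf (totTop f) AddCommGrpCat.{u}) :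
    (toFibT f y n).app G = (toFib (pow f n).hom y).app ((rF f (TIdx.pw n)).obj G) ≫
      (gTopNatIso (fib (pow f n).hom y)).hom.app ((rF f (TIdx.pw n)).obj G) ≫
        (secFib f y n).map ((fibBeta f y n).app G) := by
  let V := fib (pow f n).hom y
  let H := (rF f (TIdx.pw n)).obj G
  haveI := isIso_gPsi (F := H) V
  refine colimit.hom_ext fun U => ?_
  refine (colimit.ι_desc (toFibCocone f y n G) U).trans ?_
  refine Eq.trans ?_ (colimit.ι_desc_assoc (fibCocone (pow f n).hom y H) U _).symm
  ext s
  let N : Opens (pow f n).left := (Opens.map (pow f n).hom).obj U.unop.1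
  have hle : (⊤ : Opens V.left) ≤ (Opens.map V.hom).obj N := fun q _ =>
    show (pow f n).hom q.1 ∈ U.unop.1 from (show (pow f n).hom q.1 = y from q.2).symm ▸ U.unop.2
  let us : ((CohTop.pull V.hom).obj H).obj.obj (op ((Opens.map V.hom).obj N)) :=
    ((TopCat.Sheaf.pullbackPushforwardAdjunction AddCommGrpCat.{u} V.hom).unit.app H).hom.app (op N) s
  let ut := ((CohTop.pull V.hom).obj H).obj.map (homOfLE hle).op us
  have h1 : (gTopNatIso V).hom.app H ((fibCocone (pow f n).hom y H).ι.app U s) = ut := by
    have hinj : Function.Injective ((gPsi H V).hom.app (op ⊤)) := by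
      haveI : IsIso (gPsi H V).hom :=
        inferInstanceAs (IsIso ((sheafToPresheaf _ AddCommGrpCat.{u}).map (gPsi H V)))
      exact ((ConcreteCategory.isIso_iff_bijective _).1 inferInstance).1
    refine hinj ?_
    refine (ConcreteCategory.congr_hom (congrArg (fun m => m.hom.app (op ⊤)) (IsIso.inv_hom_id (gPsi H V))) _).trans ?_
    refine Eq.trans ?_ (ConcreteCategory.congr_hom ((gPsi H V).hom.naturality (homOfLE hle).op) us).symm
    refine Eq.trans ?_ (congrArg ((gSh H V).obj.map (homOfLE hle).op) (gPsi_unit V N s)).symm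
    rfl
  show G.obj.map (fibToPow f y n U.unop.1 U.unop.2).op s =
    ((fibBeta f y n).app G).hom.app (op ⊤) ((gTopNatIso V).hom.app H ((fibCocone (pow f n).hom y H).ι.app U s))
  rw [h1]
  refine Eq.trans ?_ (ConcreteCategory.congr_hom (((fibBeta f y n).app G).hom.naturality (homOfLE hle).op) us).symm
  refine Eq.trans ?_ (congrArg (((rF f (TIdx.fib y n)).obj G).obj.map (homOfLE hle).op) (fibBeta_unit f y n G N s)).symm
  exact ConcreteCategory.congr_hom ((congrArg G.obj.map (show (fibToPow f y n U.unop.1 U.unop.2).op =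
    (fibJ f y n N).op ≫ (tIncl f (TIdx.fib y n) hle).op from Quiver.Hom.unop_inj (tot_ext fun _ => rfl))).trans
      (G.obj.map_comp _ _)) s

variable {f} {y n}

theorem isRightAcyclic_secFib_of_flasque (G : CohTop.Ab (tBase f (TIdx.fib y n)).left) [TopCat.Sheaf.IsFlasque G] :
    TriCat.IsRightAcyclic (secFib f y n) G := fun i hi => by
  obtain ⟨j, rfl⟩ := Nat.exists_eq_succ_of_ne_zero hi.ne'
  refine IsZero.of_iso ?_ (SpObjSS.rightDerivedSecAtIso _ ⊤ (j + 1) G)
  haveI : Subsingleton (CohTop.H G (j + 1)) := SiteBase.subsingleton_H_of_isFlasque G j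
  have : Subsingleton (CohSite.HU G (j + 1) (⊤ : Opens (tBase f (TIdx.fib y n)).left)) :=
    (SiteBase.huTerminalEquiv isTerminalTop G (j + 1)).toEquiv.subsingleton
  exact AddCommGrpCat.isZero_of_subsingleton _

theorem isRightAcyclic_secFib_pull (hf : PropSep f) (H : CohTop.Ab (tBase f (TIdx.pw n)).left)
    [TopCat.Sheaf.IsFlasque H] : TriCat.IsRightAcyclic (secFib f y n) ((CohTop.pull (fibι f y n)).obj H) :=
  fun i hi => by
    obtain ⟨j, rfl⟩ := Nat.exists_eq_succ_of_ne_zero hi.ne'
    refine IsZero.of_iso ?_ (SpObjSS.rightDerivedSecAtIso _ ⊤ (j + 1) _)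
    haveI : Subsingleton (CohTop.H ((CohTop.pull (fibι f y n)).obj H) (j + 1)) :=
      subsingleton_H_pull_compSep (F := H) ((hf.pow n).compSep_fib y) j
    have : Subsingleton (CohSite.HU ((CohTop.pull (fibι f y n)).obj H) (j + 1)
        (⊤ : Opens (tBase f (TIdx.fib y n)).left)) :=
      (SiteBase.huTerminalEquiv isTerminalTop _ (j + 1)).toEquiv.subsingleton
    exact AddCommGrpCat.isZero_of_subsingleton _

variable (f y n)

/-- Restriction to the fibre is a quasi-isomorphism on resolutions of germ families. -/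
theorem quasiIso_toFibT (hf : PropSep f) (R : InjectiveResolution (gT f F)) :
    QuasiIso ((NatTrans.mapHomologicalComplex (toFibT f y n) (ComplexShape.up ℕ)).app R.cocomplex) := by
  haveI : (CohTop.pull (fibι f y n)).Additive :=
    Adjunction.left_adjoint_additive (TopCat.Sheaf.pullbackPushforwardAdjunction AddCommGrpCat.{u} (fibι f y n))
  haveI : PreservesFiniteColimits (CohTop.pull (fibι f y n)) := CohPull.preservesFiniteColimits_pull _
  let E₁ := rF f (TIdx.pw n) ⋙ CohTop.pull (fibι f y n)
  let E₂ := rF f (TIdx.fib y n)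
  haveI : PreservesFiniteLimits E₁ := comp_preservesFiniteLimits _ _
  haveI : PreservesFiniteColimits E₁ := comp_preservesFiniteColimits _ _
  haveI : E₁.PreservesHomology := inferInstance
  haveI : E₂.PreservesHomology := inferInstance
  haveI : PreservesFiniteLimits (secFib f y n) :=
    inferInstanceAs (PreservesFiniteLimits (sheafToPresheaf (Opens.grothendieckTopology (tBase f (TIdx.fib y n)).left)
      AddCommGrpCat.{u} ⋙ (evaluation (Opens (tBase f (TIdx.fib y n)).left)ᵒᵖ AddCommGrpCat.{u}).obj (op ⊤)))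
  let β := NatTrans.mapHomologicalComplex (fibBeta f y n) (ComplexShape.up ℕ)
  have hβ : QuasiIso (β.app R.cocomplex) := by
    haveI h0 : ∀ k, IsIso ((β.app ((CochainComplex.single₀ _).obj (gT f F))).f k) := fun k => by
      cases k with
      | zero => exact isIso_fibBeta_gT f y n F
      | succ k =>
        have hz := HomologicalComplex.isZero_single_obj_X (ComplexShape.up ℕ) 0 (gT f F) (k + 1) (by simp)
        exact isIso_of_source_target_iso_zero _ (E₁.map_isZero hz).isoZero (E₂.map_isZero hz).isoZero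
    haveI : IsIso (β.app ((CochainComplex.single₀ _).obj (gT f F))) :=
      HomologicalComplex.Hom.isIso_of_components _
    haveI : QuasiIso ((E₁.mapHomologicalComplex (ComplexShape.up ℕ)).map R.ι) := inferInstance
    haveI : QuasiIso ((E₂.mapHomologicalComplex (ComplexShape.up ℕ)).map R.ι) := inferInstance
    have hn := β.naturality R.ι
    haveI : QuasiIso ((E₁.mapHomologicalComplex (ComplexShape.up ℕ)).map R.ι ≫ β.app R.cocomplex) := by
      rw [hn]; infer_instance
    exact quasiIso_of_comp_left ((E₁.mapHomologicalComplex (ComplexShape.up ℕ)).map R.ι) _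
  have hΨ : QuasiIso (((secFib f y n).mapHomologicalComplex (ComplexShape.up ℕ)).map (β.app R.cocomplex)) :=
    quasiIso_map_of_acyclic (secFib f y n) _ hβ
      (fun k => by
        haveI : TopCat.Sheaf.IsFlasque ((rF f (TIdx.pw n)).obj (R.cocomplex.X k)) := isFlasque_rF _ _
        exact isRightAcyclic_secFib_pull hf _)
      (fun k => @isRightAcyclic_secFib_of_flasque _ _ _ y n ((rF f (TIdx.fib y n)).obj (R.cocomplex.X k))
        (isFlasque_rF _ _))
  haveI : ∀ H, IsIso ((toFib (pow f n).hom y).app H) := isIso_toFib (hf.pow n) y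
  have hTF : IsIso (toFib (pow f n).hom y) := @NatIso.isIso_of_isIso_app _ _ _ _ _ _ (toFib (pow f n).hom y) this
  let γi : stalkLevel f y n ≅ E₁ ⋙ secFib f y n :=
    Functor.isoWhiskerLeft (rF f (TIdx.pw n)) (@asIso _ _ _ _ (toFib (pow f n).hom y) hTF ≪≫ gTopNatIso (fib (pow f n).hom y))
  let γ : stalkLevel f y n ⟶ E₁ ⋙ secFib f y n := γi.hom
  haveI : IsIso γ := γi.isIso_hom
  have e : (NatTrans.mapHomologicalComplex (toFibT f y n) (ComplexShape.up ℕ)).app R.cocomplex =
      (NatTrans.mapHomologicalComplex γ (ComplexShape.up ℕ)).app R.cocomplex ≫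
        ((secFib f y n).mapHomologicalComplex (ComplexShape.up ℕ)).map (β.app R.cocomplex) :=
    HomologicalComplex.hom_ext _ _ fun k => (toFibT_eq f y n (R.cocomplex.X k)).trans (by
      show _ = (_ ≫ _) ≫ _
      exact (Category.assoc _ _ _).symm)
  haveI : ∀ k, IsIso (((NatTrans.mapHomologicalComplex γ (ComplexShape.up ℕ)).app R.cocomplex).f k) :=
    fun k => inferInstanceAs (IsIso (γ.app (R.cocomplex.X k)))
  haveI : IsIso ((NatTrans.mapHomologicalComplex γ (ComplexShape.up ℕ)).app R.cocomplex) :=
    HomologicalComplex.Hom.isIso_of_components _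
  rw [e]
  exact @quasiIso_comp _ _ _ _ _ _ _ _ ((NatTrans.mapHomologicalComplex γ (ComplexShape.up ℕ)).app R.cocomplex)
    (((secFib f y n).mapHomologicalComplex (ComplexShape.up ℕ)).map (β.app R.cocomplex)) _ _ _ inferInstance hΨ

end Groth.Agent.TopDescent

end
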