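import Groth.Agent.TopDescent.TotalSite
import Groth.Agent.TopDescent.FiniteFibre
import Groth.Agent.SiteBase.CechPost

/-!
# Injective sheaves on the total site
-/

set_option autoImplicit false

universe u

open CategoryTheory CategoryTheory.Limits TopologicalSpace Opposite Topology Filter

noncomputable section

namespace Groth.Agent.TopDescent

open EtDescSplit (pow powMap)

variable {S X : TopCat.{u}} (f : X ⟶ S)

/-- A fibre power over an open, on the total site. -/
abbrev obP (n : ℕ) (U : Opens S) : Tot f :=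
  mkT f (TIdx.pw n) ((Opens.map (tBase f (TIdx.pw n)).hom).obj U)

/-- A map of fibre powers, on the total site. -/
def powT {m n : ℕ} (α : Fin (m + 1) → Fin (n + 1)) (U : Opens S) : obP f n U ⟶ obP f m U :=
  InducedCategory.homMk (show over (pow f n) U ⟶ over (pow f m) U from (overF U).map (powMap f α))

/-- A face, on the total site. -/
abbrev faceT {n : ℕ} (i : Fin (n + 2)) (U : Opens S) : obP f (n + 1) U ⟶ obP f n U :=
  powT f i.succAbove U

/-- Inclusion over opens of the base. -/
def resT {n : ℕ} {U V : Opens S} (h : V ≤ U) : obP f n V ⟶ obP f n U :=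
  tIncl f (TIdx.pw n) (fun _ hz => h hz)

variable {f}

/-- The coordinates of a point. -/
abbrev coord {n : ℕ} {U : Opens S} {T : Tot f} (g : T ⟶ obP f n U) (i : Fin (n + 1)) (q : (tObj f T).left) : X :=
  WidePullback.π (fun _ : Fin (n + 1) => f) i (tPt g q)

theorem totP_ext {n : ℕ} {U : Opens S} {T : Tot f} {g g' : T ⟶ obP f n U}
    (h : ∀ i q, coord g i q = coord g' i q) : g = g' :=
  tot_ext fun q => wp_ext f _ _ fun i => h i q

theorem coord_powT {m n : ℕ} (α : Fin (m + 1) → Fin (n + 1)) {U : Opens S} {T : Tot f} (g : T ⟶ obP f n U)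
    (i : Fin (m + 1)) (q : (tObj f T).left) : coord (g ≫ powT f α U) i q = coord g (α i) q :=
  π_powMap f α i (tPt g q)

theorem coord_resT {n : ℕ} {U V : Opens S} (h : V ≤ U) {T : Tot f} (g : T ⟶ obP f n V)
    (i : Fin (n + 1)) (q : (tObj f T).left) : coord (g ≫ resT f h) i q = coord g i q := rfl

/-- Prepending a coordinate. -/
def consT {n : ℕ} {U : Opens S} {T : Tot f} (a : T ⟶ obP f 0 U) (g : T ⟶ obP f n U) : T ⟶ obP f (n + 1) U :=
  let gl : (tObj f T).left ⟶ (pow f n).left := TopCat.ofHom ⟨fun q => tPt g q,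
    continuous_subtype_val.comp g.hom.left.hom.continuous⟩
  let al : (tObj f T).left ⟶ (pow f 0).left := TopCat.ofHom ⟨fun q => tPt a q,
    continuous_subtype_val.comp a.hom.left.hom.continuous⟩
  let l : (tObj f T).left ⟶ (pow f (n + 1)).left :=
    WidePullback.lift (tObj f T).hom
      (Fin.cons (al ≫ WidePullback.π (fun _ : Fin (0 + 1) => f) 0)
        fun i => gl ≫ WidePullback.π (fun _ : Fin (n + 1) => f) i)
      (by
        intro j
        induction j using Fin.cases with
        | zero =>
          rw [Fin.cons_zero, Category.assoc, WidePullback.π_arrow]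
          exact TopCat.hom_ext (ContinuousMap.ext fun q => ConcreteCategory.congr_hom (Over.w a.hom) q)
        | succ i =>
          rw [Fin.cons_succ, Category.assoc, WidePullback.π_arrow]
          exact TopCat.hom_ext (ContinuousMap.ext fun q => ConcreteCategory.congr_hom (Over.w g.hom) q))
  have hl : ∀ q, (pow f (n + 1)).hom (l q) = (tObj f T).hom q := fun q =>
    ConcreteCategory.congr_hom (WidePullback.lift_base _ _ _ _) q
  InducedCategory.homMk (Over.homMk
    (TopCat.ofHom ⟨fun q => (⟨l q, show (pow f (n + 1)).hom (l q) ∈ U by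
        rw [hl, ← Over.w g.hom]; exact (g.hom.left q).2⟩ : ((Opens.map (pow f (n + 1)).hom).obj U : Opens _)),
      l.hom.continuous.subtype_mk _⟩)
    (TopCat.hom_ext (ContinuousMap.ext hl)))

theorem coord_consT_zero {n : ℕ} {U : Opens S} {T : Tot f} (a : T ⟶ obP f 0 U) (g : T ⟶ obP f n U)
    (q : (tObj f T).left) : coord (consT a g) 0 q = coord a 0 q :=
  (ConcreteCategory.congr_hom (WidePullback.lift_π _ _ _ _ (0 : Fin (n + 1 + 1))) q).trans (by rw [Fin.cons_zero]; rfl)

theorem coord_consT_succ {n : ℕ} {U : Opens S} {T : Tot f} (a : T ⟶ obP f 0 U) (g : T ⟶ obP f n U)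
    (i : Fin (n + 1)) (q : (tObj f T).left) : coord (consT a g) i.succ q = coord g i q :=
  (ConcreteCategory.congr_hom (WidePullback.lift_π _ _ _ _ i.succ) q).trans (by rw [Fin.cons_succ]; rfl)

theorem consT_face_zero {n : ℕ} {U : Opens S} {T : Tot f} (a : T ⟶ obP f 0 U) (g : T ⟶ obP f n U) :
    consT a g ≫ faceT f (0 : Fin (n + 2)) U = g := totP_ext fun i q => by
  rw [coord_powT, Fin.succAbove_zero, coord_consT_succ]

theorem consT_face_succ {n : ℕ} {U : Opens S} {T : Tot f} (a : T ⟶ obP f 0 U) (g : T ⟶ obP f (n + 1) U)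
    (j : Fin (n + 2)) : consT a g ≫ faceT f j.succ U = consT a (g ≫ faceT f j U) := totP_ext fun i q => by
  rw [coord_powT]
  induction i using Fin.cases with
  | zero => rw [Fin.succ_succAbove_zero, coord_consT_zero, coord_consT_zero]
  | succ i => rw [Fin.succ_succAbove_succ, coord_consT_succ, coord_consT_succ, coord_powT]

theorem consT_face_one {U : Opens S} {T : Tot f} (a g : T ⟶ obP f 0 U) :
    consT a g ≫ faceT f (1 : Fin (0 + 2)) U = a := totP_ext fun i q => by
  obtain rfl := Fin.fin_one_eq_zero i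
  rw [coord_powT, show (1 : Fin (0 + 2)).succAbove 0 = 0 from rfl, coord_consT_zero]

variable (f)

/-- The alternating sum over the faces. -/
abbrev ddT (P : (Tot f)ᵒᵖ ⥤ AddCommGrpCat.{u}) {n : ℕ} (U : Opens S) (x : P.obj (op (obP f n U))) :
    P.obj (op (obP f (n + 1) U)) :=
  ∑ i : Fin (n + 2), (-1 : ℤ) ^ (i : ℕ) • P.map (faceT f i U).op x

variable {f}

theorem exists_retract (I : Sheaf (totTop f) AddCommGrpCat.{u}) [Injective I] :
    ∃ r : SiteBase.cofreeOn I.obj ⟶ I.obj, SiteBase.toCofreeOn I.obj ≫ r = 𝟙 _ := by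
  haveI : Injective I.obj := @SiteBase.injective_obj _ _ _ I ‹_›
  haveI := SiteBase.mono_toCofreeOn I.obj
  exact ⟨Injective.factorThru (𝟙 _) (SiteBase.toCofreeOn I.obj), Injective.comp_factorThru _ _⟩

/-- Injective sheaves have exact Cech complexes. -/
theorem exists_primitive_injective (I : Sheaf (totTop f) AddCommGrpCat.{u}) [Injective I] {n : ℕ} (U : Opens S)
    (x : I.obj.obj (op (obP f (n + 1) U))) (hx : ddT f I.obj U x = 0) :
    ∃ z : I.obj.obj (op (obP f n U)), ddT f I.obj U z = x := by
  obtain ⟨r, hr⟩ := exists_retract I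
  let z' : (SiteBase.cofreeOn I.obj).obj (op (obP f n U)) := fun T g =>
    I.obj.map (consT (Classical.choice ⟨g ≫ powT f (fun _ => (0 : Fin (n + 1))) U⟩) g).op x
  have key : ddT f (SiteBase.cofreeOn I.obj) U z' = (SiteBase.toCofreeOn I.obj).app _ x := by
    refine funext fun T => funext fun g => ?_
    let a : T ⟶ obP f 0 U := Classical.choice ⟨g ≫ powT f (fun _ => (0 : Fin (n + 1 + 1))) U⟩
    let ev : (SiteBase.cofreeOn I.obj).obj (op (obP f (n + 1) U)) →+ I.obj.obj (op T) :=
      AddMonoidHom.mk' (fun z => z T g) (fun _ _ => rfl)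
    let ev' : I.obj.obj (op (obP f (n + 1 + 1) U)) →+ I.obj.obj (op T) := (I.obj.map (consT a g).op).hom
    show ev (ddT f (SiteBase.cofreeOn I.obj) U z') = I.obj.map g.op x
    refine alt_sum_shift ev' ev (fun i => I.obj.map (faceT f i U).op x)
      (fun i => (SiteBase.cofreeOn I.obj).map (faceT f i U).op z') (I.obj.map g.op x) ?_ ?_ fun i => ?_
    · exact (congrArg ev' hx).trans (map_zero ev')
    · show I.obj.map (consT a g).op (I.obj.map _ x) = _
      rw [← ConcreteCategory.comp_apply, ← Functor.map_comp, ← op_comp, consT_face_zero]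
    · show I.obj.map (consT a g).op (I.obj.map _ x) =
        I.obj.map (consT (Classical.choice ⟨(g ≫ faceT f i U) ≫ powT f (fun _ => (0 : Fin (n + 1))) U⟩)
          (g ≫ faceT f i U)).op x
      rw [← ConcreteCategory.comp_apply, ← Functor.map_comp, ← op_comp, consT_face_succ]
  refine ⟨r.app _ z', ?_⟩
  have hnat : ddT f I.obj U (r.app _ z') = r.app _ (ddT f (SiteBase.cofreeOn I.obj) U z') := by
    refine Eq.trans ?_ (map_sum (r.app (op (obP f (n + 1) U))).hom _ _).symm
    refine Finset.sum_congr rfl fun i _ => Eq.trans ?_ (map_zsmul (r.app (op (obP f (n + 1) U))).hom _ _).symm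
    exact congrArg (((-1 : ℤ) ^ (i : ℕ)) • ·) (ConcreteCategory.congr_hom (r.naturality (faceT f i U).op) z').symm
  rw [hnat, key]
  exact ConcreteCategory.congr_hom (congrArg (fun m => m.app (op (obP f (n + 1) U))) hr) x

theorem map_eq_of_cocycle (P : (Tot f)ᵒᵖ ⥤ AddCommGrpCat.{u}) (U : Opens S) (x : P.obj (op (obP f 0 U)))
    (hx : ddT f P U x = 0) {T : Tot f} (a g : T ⟶ obP f 0 U) : P.map a.op x = P.map g.op x := by
  have h : P.map (consT a g).op (ddT f P U x) = 0 := by
    rw [hx]; exact map_zero (P.map (consT a g).op).hom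
  have h' : P.map (faceT f (0 : Fin (0 + 2)) U).op x + -(P.map (faceT f (1 : Fin (0 + 2)) U).op x) =
      ddT f P U x := by
    refine Eq.trans ?_ (Fin.sum_univ_two _).symm
    simp
  rw [← h'] at h
  replace h := ((map_add (P.map (consT a g).op).hom _ _).trans
    (congrArg (_ + ·) (map_neg (P.map (consT a g).op).hom _))).symm.trans h
  have e₀ : P.map (consT a g).op (P.map (faceT f (0 : Fin (0 + 2)) U).op x) = P.map g.op x := by
    rw [← ConcreteCategory.comp_apply, ← Functor.map_comp, ← op_comp, consT_face_zero]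
  have e₁ : P.map (consT a g).op (P.map (faceT f (1 : Fin (0 + 2)) U).op x) = P.map a.op x := by
    rw [← ConcreteCategory.comp_apply, ← Functor.map_comp, ← op_comp, consT_face_one]
  exact (eq_of_sub_eq_zero ((sub_eq_add_neg _ _).trans
    ((congrArg₂ (fun p q => p + -q) e₀ e₁).symm.trans h))).symm

/-- Cocycles of injective sheaves extend to larger opens. -/
theorem exists_extend_cocycle (I : Sheaf (totTop f) AddCommGrpCat.{u}) [Injective I] {U V : Opens S} (hVU : V ≤ U)
    (x : I.obj.obj (op (obP f 0 V))) (hx : ddT f I.obj V x = 0) :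
    ∃ y : I.obj.obj (op (obP f 0 U)), ddT f I.obj U y = 0 ∧ I.obj.map (resT f hVU).op y = x := by
  classical
  obtain ⟨r, hr⟩ := exists_retract I
  let y' : (SiteBase.cofreeOn I.obj).obj (op (obP f 0 U)) := fun T _ =>
    if h : Nonempty (T ⟶ obP f 0 V) then I.obj.map (Classical.choice h).op x else 0
  have hy' : ddT f (SiteBase.cofreeOn I.obj) U y' = 0 := by
    refine funext fun T => funext fun g => ?_
    let ev : (SiteBase.cofreeOn I.obj).obj (op (obP f (0 + 1) U)) →+ I.obj.obj (op T) :=
      AddMonoidHom.mk' (fun z => z T g) (fun _ _ => rfl)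
    show ev (ddT f (SiteBase.cofreeOn I.obj) U y') = 0
    refine (map_sum ev _ _).trans ((Fin.sum_univ_two _).trans ?_)
    rw [map_zsmul, map_zsmul]
    simp only [Fin.val_zero, pow_zero, one_smul, Fin.val_one, pow_one, neg_smul]
    exact add_neg_cancel _
  refine ⟨r.app _ y', ?_, ?_⟩
  · have hnat : ddT f I.obj U (r.app _ y') = r.app _ (ddT f (SiteBase.cofreeOn I.obj) U y') := by
      refine Eq.trans ?_ (map_sum (r.app (op (obP f (0 + 1) U))).hom _ _).symm
      refine Finset.sum_congr rfl fun i _ => Eq.trans ?_ (map_zsmul (r.app (op (obP f (0 + 1) U))).hom _ _).symm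
      exact congrArg (((-1 : ℤ) ^ (i : ℕ)) • ·) (ConcreteCategory.congr_hom (r.naturality (faceT f i U).op) y').symm
    rw [hnat, hy']
    exact map_zero _
  · refine (ConcreteCategory.congr_hom (r.naturality (resT f hVU).op) y').symm.trans ?_
    refine Eq.trans (congrArg (r.app _) ?_) (ConcreteCategory.congr_hom (congrArg (fun m => m.app (op (obP f 0 V))) hr) x)
    refine funext fun T => funext fun g => ?_
    show (if h : Nonempty (T ⟶ obP f 0 V) then I.obj.map (Classical.choice h).op x else 0) = I.obj.map g.op x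
    rw [dif_pos ⟨g⟩]
    exact map_eq_of_cocycle I.obj V x hx _ g

/-- The restriction of an injective sheaf to each space is flasque. -/
theorem isFlasque_rF (I : Sheaf (totTop f) AddCommGrpCat.{u}) [Injective I] (i : TIdx S) :
    TopCat.Sheaf.IsFlasque ((rF f i).obj I) where
  epi {N M} h := by
    rw [AddCommGrpCat.epi_iff_surjective]
    intro x
    classical
    obtain ⟨r, hr⟩ := exists_retract I
    let ι' : mkT f i M.unop ⟶ mkT f i N.unop := (inclF f i).map h.unop
    let y' : (SiteBase.cofreeOn I.obj).obj (op (mkT f i N.unop)) := fun T g =>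
      if h' : ∃ g' : T ⟶ mkT f i M.unop, g' ≫ ι' = g then I.obj.map h'.choose.op x else 0
    refine ⟨r.app _ y', ?_⟩
    refine (ConcreteCategory.congr_hom (r.naturality ι'.op) y').symm.trans ?_
    refine Eq.trans (congrArg (r.app _) ?_)
      (ConcreteCategory.congr_hom (congrArg (fun m => m.app (op (mkT f i M.unop))) hr) x)
    refine funext fun T => funext fun g => ?_
    have h' : ∃ g' : T ⟶ mkT f i M.unop, g' ≫ ι' = g ≫ ι' := ⟨g, rfl⟩
    show (if h'' : ∃ g' : T ⟶ mkT f i M.unop, g' ≫ ι' = g ≫ ι' then I.obj.map h''.choose.op x else 0) =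
      I.obj.map g.op x
    rw [dif_pos h']
    have e : h'.choose = g := tot_ext fun q => (congrArg (fun k => tPt k q) h'.choose_spec : _)
    rw [e]

end Groth.Agent.TopDescent

end
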