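import Groth.Agent.TopDescent.TotalFibre
import Groth.Agent.SiteBase.Derived
import Groth.Agent.S0471
import Mathlib.Algebra.Homology.Functor

/-!
# The rows of the descent double complex of a proper map are exact
-/

set_option autoImplicit false

universe u

open CategoryTheory CategoryTheory.Limits TopologicalSpace Opposite Topology Filter

noncomputable section

namespace Groth.Agent.TopDescent

open EtDescSplit (pow powMap)
open SpObjSS (secAt)

variable {S X : TopCat.{u}}

/-! ### Exactness of the alternating coface complex -/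

/-- The alternating sum of cofaces. -/
abbrev cdd (c : SimplexCategory ⥤ AddCommGrpCat.{u}) {n : ℕ} (x : c.obj ⟨n⟩) : c.obj ⟨n + 1⟩ :=
  ∑ i : Fin (n + 2), (-1 : ℤ) ^ (i : ℕ) • c.map (SimplexCategory.δ i) x

theorem cdd_iso {c d : SimplexCategory ⥤ AddCommGrpCat.{u}} (e : c ≅ d) {n : ℕ} (x : c.obj ⟨n⟩) :
    cdd d (e.hom.app ⟨n⟩ x) = e.hom.app ⟨n + 1⟩ (cdd c x) := by
  refine Eq.trans ?_ (map_sum (e.hom.app ⟨n + 1⟩).hom _ _).symm
  refine Finset.sum_congr rfl fun i _ => Eq.trans ?_ (map_zsmul (e.hom.app ⟨n + 1⟩).hom _ _).symm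
  exact congrArg (((-1 : ℤ) ^ (i : ℕ)) • ·) (ConcreteCategory.congr_hom (e.hom.naturality (SimplexCategory.δ i)) x).symm

theorem stk_accS_d (c : SimplexCategory ⥤ CohTop.Ab S) (y : S) (n : ℕ) (g : (stk y).obj (c.obj ⟨n⟩)) :
    (stk y).map (((accS S).obj c).d n (n + 1)) g = cdd (c ⋙ stk y) g := by
  have hd : ((accS S).obj c).d n (n + 1) = AlgebraicTopology.AlternatingCofaceMapComplex.objD c n := by
    dsimp only [accS, AlgebraicTopology.alternatingCofaceMapComplex, AlgebraicTopology.AlternatingCofaceMapComplex.obj]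
    exact CochainComplex.of_d _ _ _
  let ev : (c.obj ⟨n⟩ ⟶ c.obj ⟨n + 1⟩) →+ (stk y).obj (c.obj ⟨n + 1⟩) :=
    AddMonoidHom.mk' (fun φ => (stk y).map φ g) (fun φ ψ => by
      show (stk y).map (φ + ψ) g = _
      rw [Functor.map_add]; rfl)
  show ev (((accS S).obj c).d n (n + 1)) = _
  rw [hd]
  unfold AlgebraicTopology.AlternatingCofaceMapComplex.objD
  exact (map_sum ev _ _).trans (Finset.sum_congr rfl fun i _ => (map_zsmul ev _ _).trans rfl)

theorem exactAt_accS_of_stalks (c : SimplexCategory ⥤ CohTop.Ab S) (n : ℕ)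
    (h : ∀ (y : S) (g : (stk y).obj (c.obj ⟨n + 1⟩)), cdd (c ⋙ stk y) g = 0 →
      ∃ z : (stk y).obj (c.obj ⟨n⟩), cdd (c ⋙ stk y) z = g) : ((accS S).obj c).ExactAt (n + 1) := by
  rw [HomologicalComplex.exactAt_iff' _ n (n + 1) (n + 1 + 1) (by simp) (by simp)]
  refine (TopCat.Sheaf.exact_iff_stalkFunctor_map_exact _).2 fun y => ?_
  rw [ShortComplex.ab_exact_iff]
  intro g hg
  obtain ⟨z, hz⟩ := h y g ((stk_accS_d c y (n + 1) g).symm.trans hg)
  exact ⟨z, (stk_accS_d c y n z).trans hz⟩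

theorem exactAt_accS_zero_of_stalks (c : SimplexCategory ⥤ CohTop.Ab S)
    (h : ∀ (y : S) (g : (stk y).obj (c.obj ⟨0⟩)), cdd (c ⋙ stk y) g = 0 → g = 0) :
    ((accS S).obj c).ExactAt 0 := by
  rw [HomologicalComplex.exactAt_iff' _ 0 0 (0 + 1) (by simp) (by simp)]
  refine (TopCat.Sheaf.exact_iff_stalkFunctor_map_exact _).2 fun y => ?_
  rw [ShortComplex.ab_exact_iff]
  intro g hg
  refine ⟨0, (map_zero _).trans ?_⟩
  exact (h y g ((stk_accS_d c y 0 g).symm.trans hg)).symm

instance : PreservesFiniteLimits (accS S) :=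
  ((Functor.preservesFiniteLimits_tfae (accS S)).out 3 0).2 fun T hT => by
    have h : (T.map (accS S)).ShortExact := HomologicalComplex.shortExact_of_degreewise_shortExact _ fun n =>
      hT.map_of_exact ((evaluation SimplexCategory (CohTop.Ab S)).obj ⟨n⟩)
    exact ⟨h.exact, h.mono_f⟩

instance : PreservesFiniteColimits (accS S) :=
  ((Functor.preservesFiniteColimits_tfae (accS S)).out 3 0).2 fun T hT => by
    have h : (T.map (accS S)).ShortExact := HomologicalComplex.shortExact_of_degreewise_shortExact _ fun n =>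
      hT.map_of_exact ((evaluation SimplexCategory (CohTop.Ab S)).obj ⟨n⟩)
    exact ⟨h.exact, h.epi_g⟩

variable (f : X ⟶ S) (y : S)

/-! ### The fibre system -/

/-- The stalks of the Cech system. -/
abbrev stalkSys : Sheaf (totTop f) AddCommGrpCat.{u} ⥤ (SimplexCategory ⥤ AddCommGrpCat.{u}) :=
  cechSys f ⋙ (Functor.whiskeringRight SimplexCategory (CohTop.Ab S) AddCommGrpCat.{u}).obj (stk y)

/-- The simplicial fibre, on the total site. -/
abbrev fibCos : SimplexCategory ⥤ (Tot f)ᵒᵖ := (tFib f y).rightOp ⋙ (topF f).op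

/-- The sections on the fibres. -/
abbrev fibSys : Sheaf (totTop f) AddCommGrpCat.{u} ⥤ (SimplexCategory ⥤ AddCommGrpCat.{u}) :=
  sheafToPresheaf (totTop f) AddCommGrpCat.{u} ⋙
    (Functor.whiskeringLeft SimplexCategory (Tot f)ᵒᵖ AddCommGrpCat.{u}).obj (fibCos f y)

/-- Restriction to the fibres. -/
def alphaSys : stalkSys f y ⟶ fibSys f y where
  app G :=
    { app := fun m => (toFibT f y m.len).app G
      naturality := fun m m' φ => by
        refine colimit.hom_ext fun U => ?_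
        refine (colimit.ι_map_assoc _ U _).trans ?_
        refine ((congrArg (_ ≫ ·) (colimit.ι_desc (toFibCocone f y m'.len G) U)).trans ?_)
        refine Eq.trans ?_ (colimit.ι_desc_assoc (toFibCocone f y m.len G) U _).symm
        show G.obj.map _ ≫ G.obj.map _ = G.obj.map _ ≫ G.obj.map _
        rw [← Functor.map_comp, ← Functor.map_comp]
        exact congrArg G.obj.map (Quiver.Hom.unop_inj (tot_ext fun _ => rfl)) }
  naturality G G' φ := NatTrans.ext (funext fun m => (toFibT f y m.len).naturality φ)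

variable (F : CohTop.Ab S)

theorem isIso_rightDerived_alphaSys (hf : PropSep f) (q : ℕ) :
    IsIso ((NatTrans.rightDerived (alphaSys f y) q).app (gT f F)) := by
  let R := injectiveResolution (gT f F)
  have h : QuasiIso ((NatTrans.mapHomologicalComplex (alphaSys f y) (ComplexShape.up ℕ)).app R.cocomplex) :=
    (HomologicalComplex.quasiIso_iff_evaluation _).2 fun m => quasiIso_toFibT f y m.len F hf R
  rw [InjectiveResolution.rightDerived_app_eq (alphaSys f y) R q]
  haveI : IsIso ((HomologicalComplex.homologyFunctor _ (ComplexShape.up ℕ) q).map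
      ((NatTrans.mapHomologicalComplex (alphaSys f y) (ComplexShape.up ℕ)).app R.cocomplex)) :=
    (quasiIsoAt_iff_isIso_homologyMap _ q).1 ((quasiIso_iff _).1 h q)
  infer_instance

/-- A face of a fibre. -/
abbrev fibFace {n : ℕ} (i : Fin (n + 2)) : mkT f (TIdx.fib y (n + 1)) ⊤ ⟶ mkT f (TIdx.fib y n) ⊤ :=
  ((fibCos f y).map (SimplexCategory.δ i)).unop

variable {f y}

/-- The coordinates of a point of a fibre. -/
abbrev fcoord {n : ℕ} {T : Tot f} (g : T ⟶ mkT f (TIdx.fib y n) ⊤) (i : Fin (n + 1)) (q : (tObj f T).left) : X :=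
  WidePullback.π (fun _ : Fin (n + 1) => f) i ((tPt g q).1)

theorem fib_ext {n : ℕ} {T : Tot f} {g g' : T ⟶ mkT f (TIdx.fib y n) ⊤}
    (h : ∀ i q, fcoord g i q = fcoord g' i q) : g = g' :=
  tot_ext fun q => Subtype.ext (wp_ext f _ _ fun i => h i q)

theorem fcoord_face {n : ℕ} {T : Tot f} (g : T ⟶ mkT f (TIdx.fib y (n + 1)) ⊤) (j : Fin (n + 2))
    (i : Fin (n + 1)) (q : (tObj f T).left) : fcoord (g ≫ fibFace f y j) i q = fcoord g (j.succAbove i) q :=
  π_powMap f j.succAbove i ((tPt g q).1)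

variable {a₀ : X} (ha : f a₀ = y)

/-- To the point. -/
def toPt (n : ℕ) : mkT f (TIdx.fib y n) ⊤ ⟶ mkT f (TIdx.pt y) ⊤ :=
  InducedCategory.homMk (Over.homMk
    (TopCat.ofHom ⟨fun _ => (⟨PUnit.unit, trivial⟩ : (⊤ : Opens (tBase f (TIdx.pt y)).left)), continuous_const⟩)
    (TopCat.hom_ext (ContinuousMap.ext fun q => (show (pow f n).hom q.1.1 = y from q.1.2).symm)))

/-- The chosen point. -/
def ptSec : mkT f (TIdx.pt y) ⊤ ⟶ obP f 0 ⊤ :=
  pointT (show y ∈ (⊤ : Opens S) from trivial) (mkPt f (fun _ : Fin (0 + 1) => a₀) y (fun _ => ha)) (mkPt_hom f _ _ _)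

/-- Prepending the chosen point, in the fibre power. -/
def consAux (n : ℕ) : mkT f (TIdx.fib y n) ⊤ ⟶ obP f (n + 1) ⊤ :=
  consT (toPt n ≫ ptSec ha) (fibToPow f y n ⊤ trivial)

/-- Prepending the chosen point. -/
def consF (n : ℕ) : mkT f (TIdx.fib y n) ⊤ ⟶ mkT f (TIdx.fib y (n + 1)) ⊤ :=
  InducedCategory.homMk (Over.homMk
    (TopCat.ofHom ⟨fun q => (⟨⟨tPt (consAux ha n) q,
      show (pow f (n + 1)).hom (tPt (consAux ha n) q) = y from
        (ConcreteCategory.congr_hom (Over.w (consAux ha n).hom) q).trans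
          (show (pow f n).hom q.1.1 = y from q.1.2)⟩, trivial⟩ :
        (⊤ : Opens (tBase f (TIdx.fib y (n + 1))).left)),
      ((continuous_subtype_val.comp (consAux ha n).hom.left.hom.continuous).subtype_mk _).subtype_mk _⟩)
    (TopCat.hom_ext (ContinuousMap.ext fun q => ConcreteCategory.congr_hom (Over.w (consAux ha n).hom) q)))

theorem fcoord_consF_zero {n : ℕ} {T : Tot f} (g : T ⟶ mkT f (TIdx.fib y n) ⊤) (q : (tObj f T).left) :
    fcoord (g ≫ consF ha n) 0 q = a₀ :=
  (coord_consT_zero (toPt n ≫ ptSec ha) (fibToPow f y n ⊤ trivial) (g.hom.left q)).trans (mkPt_π f _ y _ 0)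

theorem fcoord_consF_succ {n : ℕ} {T : Tot f} (g : T ⟶ mkT f (TIdx.fib y n) ⊤) (i : Fin (n + 1))
    (q : (tObj f T).left) : fcoord (g ≫ consF ha n) i.succ q = fcoord g i q :=
  coord_consT_succ (toPt n ≫ ptSec ha) (fibToPow f y n ⊤ trivial) i (g.hom.left q)

theorem consF_face_zero (n : ℕ) : consF ha n ≫ fibFace f y (0 : Fin (n + 2)) = 𝟙 _ := fib_ext fun i q => by
  rw [fcoord_face, Fin.succAbove_zero]
  exact fcoord_consF_succ ha (𝟙 _) i q

theorem consF_face_succ (n : ℕ) (j : Fin (n + 2)) :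
    consF ha (n + 1) ≫ fibFace f y j.succ = fibFace f y j ≫ consF ha n := fib_ext fun i q => by
  rw [fcoord_face]
  induction i using Fin.cases with
  | zero =>
    rw [Fin.succ_succAbove_zero, fcoord_consF_zero]
    exact fcoord_consF_zero ha (𝟙 _) q
  | succ i =>
    rw [Fin.succ_succAbove_succ, fcoord_consF_succ]
    refine (fcoord_consF_succ ha (𝟙 _) (j.succAbove i) q).trans ?_
    exact (fcoord_face (𝟙 _) j i q).symm

/-- The constant map of the fibre, through the point. -/
def ptIn : mkT f (TIdx.pt y) ⊤ ⟶ mkT f (TIdx.fib y 0) ⊤ :=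
  InducedCategory.homMk (Over.homMk
    (TopCat.ofHom ⟨fun _ => (⟨⟨mkPt f (fun _ : Fin (0 + 1) => a₀) y (fun _ => ha), mkPt_hom f _ _ _⟩, trivial⟩ :
      (⊤ : Opens (tBase f (TIdx.fib y 0)).left)), continuous_const⟩)
    (TopCat.hom_ext (ContinuousMap.ext fun _ => mkPt_hom f _ _ _)))

theorem consF_face_one : consF ha 0 ≫ fibFace f y (1 : Fin (0 + 2)) = toPt 0 ≫ ptIn ha := fib_ext fun i q => by
  obtain rfl := Fin.fin_one_eq_zero i
  rw [fcoord_face, show (1 : Fin (0 + 2)).succAbove 0 = 0 from rfl]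
  exact (fcoord_consF_zero ha (𝟙 _) q).trans (mkPt_π f (fun _ : Fin (0 + 1) => a₀) y (fun _ => ha) 0).symm

variable (P : (Tot f)ᵒᵖ ⥤ AddCommGrpCat.{u})

include ha in
theorem exists_primitive_fibCos {n : ℕ} (x : P.obj (op (mkT f (TIdx.fib y (n + 1)) ⊤)))
    (hx : cdd (fibCos f y ⋙ P) (n := n + 1) x = 0) :
    ∃ z : P.obj (op (mkT f (TIdx.fib y n) ⊤)), cdd (fibCos f y ⋙ P) (n := n) z = x := by
  refine ⟨P.map (consF ha n).op x, ?_⟩
  let ev : P.obj (op (mkT f (TIdx.fib y (n + 1 + 1)) ⊤)) →+ P.obj (op (mkT f (TIdx.fib y (n + 1)) ⊤)) :=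
    (P.map (consF ha (n + 1)).op).hom
  let ev' : P.obj (op (mkT f (TIdx.fib y (n + 1)) ⊤)) →+ P.obj (op (mkT f (TIdx.fib y (n + 1)) ⊤)) :=
    AddMonoidHom.id _
  show ev' (cdd (fibCos f y ⋙ P) (n := n) (P.map (consF ha n).op x)) = x
  refine alt_sum_shift ev ev' (fun i => P.map (fibFace f y i).op x)
    (fun i => P.map (fibFace f y i).op (P.map (consF ha n).op x)) x ?_ ?_ fun i => ?_
  · exact (congrArg ev hx).trans (map_zero ev)
  · show P.map (consF ha (n + 1)).op (P.map (fibFace f y (0 : Fin (n + 1 + 2))).op x) = x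
    rw [← ConcreteCategory.comp_apply, ← Functor.map_comp, ← op_comp, consF_face_zero]
    exact ConcreteCategory.congr_hom (P.map_id _) x
  · show P.map (consF ha (n + 1)).op (P.map (fibFace f y i.succ).op x) =
      P.map (fibFace f y i).op (P.map (consF ha n).op x)
    rw [← ConcreteCategory.comp_apply, ← ConcreteCategory.comp_apply, ← Functor.map_comp, ← Functor.map_comp,
      ← op_comp, ← op_comp, consF_face_succ]

include ha in
theorem eq_zero_fibCos (hP : IsZero (P.obj (op (mkT f (TIdx.pt y) ⊤))))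
    (x : P.obj (op (mkT f (TIdx.fib y 0) ⊤))) (hx : cdd (fibCos f y ⋙ P) (n := 0) x = 0) : x = 0 := by
  have h' : P.map (fibFace f y (0 : Fin (0 + 2))).op x + -(P.map (fibFace f y (1 : Fin (0 + 2))).op x) = 0 := by
    refine Eq.trans ?_ hx
    refine Eq.trans ?_ (Fin.sum_univ_two _).symm
    simp
    rfl
  replace h' := ((map_add (P.map (consF ha 0).op).hom _ _).trans
    (congrArg (_ + ·) (map_neg (P.map (consF ha 0).op).hom _))).symm.trans
      ((congrArg (P.map (consF ha 0).op) h').trans (map_zero _))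
  have e₀ : P.map (consF ha 0).op (P.map (fibFace f y (0 : Fin (0 + 2))).op x) = x := by
    rw [← ConcreteCategory.comp_apply, ← Functor.map_comp, ← op_comp, consF_face_zero]
    exact ConcreteCategory.congr_hom (P.map_id _) x
  have e₁ : P.map (consF ha 0).op (P.map (fibFace f y (1 : Fin (0 + 2))).op x) = 0 := by
    rw [← ConcreteCategory.comp_apply, ← Functor.map_comp, ← op_comp, consF_face_one, op_comp, Functor.map_comp,
      ConcreteCategory.comp_apply]
    haveI := AddCommGrpCat.subsingleton_of_isZero hP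
    rw [Subsingleton.elim (P.map (ptIn ha).op x) 0]
    exact map_zero _
  exact ((add_eq_left.2 (neg_eq_zero.2 e₁)).trans e₀).symm.trans h'

end Groth.Agent.TopDescent

end
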