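import Groth.Agent.TopDescent.LocalCech
import Mathlib.CategoryTheory.InducedCategory
import Mathlib.CategoryTheory.Sites.EpiMono
import Mathlib.Algebra.Homology.ShortComplex.ExactFunctor

/-!
# A small site containing the fibre powers of a map and their fibres
-/

set_option autoImplicit false

universe u

open CategoryTheory CategoryTheory.Limits TopologicalSpace Opposite Topology Filter

noncomputable section

namespace Groth.Agent.TopDescent

open EtDescSplit (pow powMap powSimp)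

/-- The indices of the spaces of the total site. -/
inductive TIdx (S : TopCat.{u}) : Type u
  | pw (n : ℕ)
  | fib (y : S) (n : ℕ)
  | pt (y : S)

variable {S X : TopCat.{u}} (f : X ⟶ S)

/-- The fibre of a fibre power. -/
abbrev fibSet (y : S) (n : ℕ) : Set (pow f n).left := (pow f n).hom ⁻¹' {y}

/-- The spaces of the total site. -/
def tBase : TIdx S → Over S
  | .pw n => pow f n
  | .fib y n => Over.mk ((TopCat.ofHom ⟨((↑) : fibSet f y n → (pow f n).left), continuous_subtype_val⟩ :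
      TopCat.of (fibSet f y n) ⟶ (pow f n).left) ≫ (pow f n).hom)
  | .pt y => Over.mk (TopCat.ofHom ⟨fun _ : PUnit.{u + 1} => y, continuous_const⟩ : TopCat.of PUnit.{u + 1} ⟶ S)

/-- The objects of the total site, as spaces. -/
def tObj (a : Σ i : TIdx S, Opens (tBase f i).left) : Over S := opn (tBase f a.1) a.2

/-- The total site. -/
abbrev Tot : Type u := InducedCategory (Over S) (tObj f)

/-- An object of the total site. -/
abbrev mkT (i : TIdx S) (N : Opens (tBase f i).left) : Tot f := ⟨i, N⟩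

variable {f}

/-- The image of a point. -/
abbrev tPt {b a : Tot f} (k : b ⟶ a) (q : (tObj f b).left) : (tBase f a.1).left := (k.hom.left q).1

theorem tot_ext {b a : Tot f} {k k' : b ⟶ a} (h : ∀ q, tPt k q = tPt k' q) : k = k' :=
  InducedCategory.hom_ext (Over.OverMorphism.ext (TopCat.hom_ext (ContinuousMap.ext fun q => Subtype.ext (h q))))

variable (f) in
/-- Inclusions of opens. -/
def tIncl (i : TIdx S) {M N : Opens (tBase f i).left} (h : M ≤ N) : mkT f i M ⟶ mkT f i N :=
  InducedCategory.homMk (opnLE (tBase f i) h)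

theorem tPt_tIncl (i : TIdx S) {M N : Opens (tBase f i).left} (h : M ≤ N) (q : (tObj f (mkT f i M)).left) :
    tPt (tIncl f i h) q = q.1 := rfl

theorem tPt_comp {c b a : Tot f} (k : c ⟶ b) (l : b ⟶ a) (q : (tObj f c).left) :
    tPt (k ≫ l) q = tPt l (k.hom.left q) := rfl

/-- The preimage of an open. -/
def preOpen {b a : Tot f} (k : b ⟶ a) (M : Opens (tBase f a.1).left) : Opens (tBase f b.1).left :=
  ⟨{z | ∃ h : z ∈ b.2, tPt k ⟨z, h⟩ ∈ M}, by
    have e : {z | ∃ h : z ∈ b.2, tPt k ⟨z, h⟩ ∈ M} =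
        Subtype.val '' {q : (tObj f b).left | tPt k q ∈ M} := by
      ext z
      exact ⟨fun ⟨h, hz⟩ => ⟨⟨z, h⟩, hz, rfl⟩, by rintro ⟨⟨z, h⟩, hz, rfl⟩; exact ⟨h, hz⟩⟩
    rw [e]
    exact b.2.isOpen.isOpenEmbedding_subtypeVal.isOpenMap _
      (M.isOpen.preimage (continuous_subtype_val.comp k.hom.left.hom.continuous))⟩

theorem preOpen_le {b a : Tot f} (k : b ⟶ a) (M : Opens (tBase f a.1).left) : preOpen k M ≤ b.2 :=
  fun _ h => h.fst

/-- The map of preimages. -/
def preHom {b a : Tot f} (k : b ⟶ a) (M : Opens (tBase f a.1).left) :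
    mkT f b.1 (preOpen k M) ⟶ mkT f a.1 M :=
  InducedCategory.homMk (Over.homMk
    (TopCat.ofHom ⟨fun q => (⟨tPt k ⟨q.1, q.2.fst⟩, q.2.snd⟩ : M),
      ((continuous_subtype_val.comp k.hom.left.hom.continuous).comp
        (continuous_subtype_val.subtype_mk fun q : (preOpen k M : Opens (tBase f b.1).left) => q.2.fst)).subtype_mk _⟩)
    (TopCat.hom_ext (ContinuousMap.ext fun q => ConcreteCategory.congr_hom (Over.w k.hom) ⟨q.1, q.2.fst⟩)))

theorem preHom_comp {b a : Tot f} (k : b ⟶ a) {M : Opens (tBase f a.1).left} (h : M ≤ a.2) :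
    preHom k M ≫ tIncl f a.1 h = tIncl f b.1 (preOpen_le k M) ≫ k :=
  tot_ext fun _ => rfl

variable (f)

/-- Open covers. -/
def totTop : GrothendieckTopology (Tot f) where
  sieves a := {R | ∀ w ∈ a.2, ∃ (M : Opens (tBase f a.1).left) (h : M ≤ a.2), w ∈ M ∧ R (tIncl f a.1 h)}
  top_mem' a w hw := ⟨a.2, le_rfl, hw, trivial⟩
  pullback_stable' a b R k hR w hw := by
    obtain ⟨M, h, hwM, hR⟩ := hR (tPt k ⟨w, hw⟩) (k.hom.left ⟨w, hw⟩).2
    refine ⟨preOpen k M, preOpen_le k M, ⟨hw, hwM⟩, ?_⟩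
    show R (tIncl f b.1 (preOpen_le k M) ≫ k)
    rw [← preHom_comp k h]
    exact R.downward_closed hR _
  transitive' a R hR T hT w hw := by
    obtain ⟨M, h, hwM, hRM⟩ := hR w hw
    obtain ⟨M', h', hwM', hTM⟩ := hT hRM w hwM
    refine ⟨M', h'.trans h, hwM', ?_⟩
    exact (tot_ext (k := tIncl f a.1 h' ≫ tIncl f a.1 h) (k' := tIncl f a.1 (h'.trans h)) fun _ => rfl) ▸ hTM

/-- The inclusion of the opens of one space. -/
def inclF (i : TIdx S) : Opens (tBase f i).left ⥤ Tot f where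
  obj N := mkT f i N
  map h := tIncl f i (leOfHom h)
  map_id _ := rfl
  map_comp _ _ := tot_ext fun _ => rfl

variable {f}

/-- A common refinement. -/
def interHom {i : TIdx S} {U₁ U₂ N : Opens (tBase f i).left} (h₁ : U₁ ≤ N) (h₂ : U₂ ≤ N) {c : Tot f}
    (g₁ : c ⟶ mkT f i U₁) (g₂ : c ⟶ mkT f i U₂) (e : g₁ ≫ tIncl f i h₁ = g₂ ≫ tIncl f i h₂) :
    c ⟶ mkT f i (U₁ ⊓ U₂) :=
  InducedCategory.homMk (Over.homMk
    (TopCat.ofHom ⟨fun q => (⟨tPt g₁ q, (g₁.hom.left q).2,
      (congrArg (fun k => tPt k q) e).symm ▸ (g₂.hom.left q).2⟩ : (U₁ ⊓ U₂ : Opens (tBase f i).left)),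
      (continuous_subtype_val.comp g₁.hom.left.hom.continuous).subtype_mk _⟩)
    (TopCat.hom_ext (ContinuousMap.ext fun q => ConcreteCategory.congr_hom (Over.w g₁.hom) q)))

/-- The restriction of a sheaf to one space is a sheaf. -/
theorem isSheaf_inclF (G : Sheaf (totTop f) AddCommGrpCat.{u}) (i : TIdx S) :
    TopCat.Presheaf.IsSheaf (X := (tBase f i).left) ((inclF f i).op ⋙ G.obj) := by
  rw [TopCat.Presheaf.isSheaf_iff_isSheafUniqueGluing]
  intro ι U sf hsf
  let π : ∀ a, mkT f i (U a) ⟶ mkT f i (iSup U) := fun a => tIncl f i (le_iSup U a)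
  have hcov : Sieve.ofArrows _ π ∈ totTop f (mkT f i (iSup U)) := by
    intro w hw
    obtain ⟨a, ha⟩ := Opens.mem_iSup.1 hw
    exact ⟨U a, le_iSup U a, ha, Sieve.ofArrows_mk _ π a⟩
  have h := ((isSheaf_iff_isSheaf_of_type _ _).1
    ((Presheaf.isSheaf_iff_isSheaf_forget (totTop f) G.obj (forget AddCommGrpCat.{u})).1 G.property)) _ hcov
  rw [Sieve.ofArrows, ← Presieve.isSheafFor_iff_generate, Presieve.isSheafFor_arrows_iff] at h
  refine h sf fun a b c g₁ g₂ e => ?_
  let l := interHom (le_iSup U a) (le_iSup U b) g₁ g₂ e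
  have e₁ : l ≫ tIncl f i inf_le_left = g₁ := tot_ext fun _ => rfl
  have e₂ : l ≫ tIncl f i inf_le_right = g₂ := tot_ext fun q => (congrArg (fun k => tPt k q) e : _)
  show G.obj.map g₁.op (sf a) = G.obj.map g₂.op (sf b)
  rw [← e₁, ← e₂, op_comp, op_comp, Functor.map_comp, Functor.map_comp]
  exact congrArg (G.obj.map l.op) (hsf a b)

variable (f)

/-- The restriction to one space. -/
def rF (i : TIdx S) : Sheaf (totTop f) AddCommGrpCat.{u} ⥤ CohTop.Ab (tBase f i).left where
  obj G := ⟨(inclF f i).op ⋙ G.obj, isSheaf_inclF G i⟩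
  map φ := ⟨Functor.whiskerLeft (inclF f i).op φ.hom⟩
  map_id _ := rfl
  map_comp _ _ := rfl

instance (i : TIdx S) : (rF f i).Additive where

instance (i : TIdx S) : PreservesFiniteLimits (rF f i) where
  preservesFiniteLimits J _ _ := by
    haveI : PreservesLimitsOfShape J (rF f i ⋙ sheafToPresheaf _ AddCommGrpCat.{u}) :=
      inferInstanceAs (PreservesLimitsOfShape J (sheafToPresheaf (totTop f) AddCommGrpCat.{u} ⋙
        (Functor.whiskeringLeft _ _ AddCommGrpCat.{u}).obj (inclF f i).op))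
    exact preservesLimitsOfShape_of_reflects_of_preserves (rF f i) (sheafToPresheaf _ AddCommGrpCat.{u})

instance (i : TIdx S) : PreservesFiniteColimits (rF f i) := by
  refine ((Functor.preservesFiniteColimits_tfae (rF f i)).out 3 0).2 fun T hT => ?_
  haveI := hT.mono_f
  refine ⟨hT.exact.map_of_mono_of_preservesKernel (rF f i) hT.mono_f inferInstance, ?_⟩
  refine (TopCat.Sheaf.isLocallySurjective_iff_epi _).1
    ((TopCat.Presheaf.isLocallySurjective_iff _).2 fun U t y hy => ?_)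
  haveI hloc : Sheaf.IsLocallySurjective T.g := (Sheaf.isLocallySurjective_iff_epi' AddCommGrpCat.{u} T.g).2 hT.epi_g
  obtain ⟨M, h, hyM, hM⟩ := Presheaf.imageSieve_mem (totTop f) T.g.hom (U := op (mkT f i U)) t y hy
  exact ⟨M, h, hM, hyM⟩

/-! ### Germ families as a sheaf on the total site -/

variable {f} (F : CohTop.Ab S)

/-- Germ families on the total site. -/
def gTP : (Tot f)ᵒᵖ ⥤ AddCommGrpCat.{u} := (inducedFunctor (tObj f)).op ⋙ gFunctor F

theorem isSheaf_gTP : Presheaf.IsSheaf (totTop f) (gTP (f := f) F) := by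
  rw [Presheaf.isSheaf_iff_isSheaf_forget (totTop f) (gTP (f := f) F) (forget AddCommGrpCat.{u}), isSheaf_iff_isSheaf_of_type]
  intro a R hR x hx
  classical
  choose M hM hwM hRM using hR
  have key : ∀ (M₁ M₂ : Opens (tBase f a.1).left) (h₁ : M₁ ≤ a.2) (h₂ : M₂ ≤ a.2) (r₁ : R (tIncl f a.1 h₁))
      (r₂ : R (tIncl f a.1 h₂)) (q : (tBase f a.1).left) (q₁ : q ∈ M₁) (q₂ : q ∈ M₂)
      (z : {z : S // (tBase f a.1).hom q = z}),
      (x (tIncl f a.1 h₁) r₁ : gGroup F (tObj f (mkT f a.1 M₁))).1 ⟨q, q₁⟩ z =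
        (x (tIncl f a.1 h₂) r₂ : gGroup F (tObj f (mkT f a.1 M₂))).1 ⟨q, q₂⟩ z := by
    intro M₁ M₂ h₁ h₂ r₁ r₂ q q₁ q₂ z
    have h := hx (tIncl f a.1 (inf_le_left : M₁ ⊓ M₂ ≤ M₁)) (tIncl f a.1 (inf_le_right : M₁ ⊓ M₂ ≤ M₂)) r₁ r₂
      (tot_ext fun _ => rfl)
    exact congrFun (congrFun (congrArg Subtype.val h) ⟨q, q₁, q₂⟩) z
  let τ : GFam F (tObj f a) := fun q z =>
    (x (tIncl f a.1 (hM q.1 q.2)) (hRM q.1 q.2) : gGroup F (tObj f (mkT f a.1 (M q.1 q.2)))).1
      ⟨q.1, hwM q.1 q.2⟩ z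
  have hτ : IsLoc F τ := by
    intro q
    obtain ⟨U, hU, s, hs⟩ := (x (tIncl f a.1 (hM q.1 q.2)) (hRM q.1 q.2) :
      gGroup F (tObj f (mkT f a.1 (M q.1 q.2)))).2 ⟨q.1, hwM q.1 q.2⟩
    refine ⟨U, hU, s, ?_⟩
    obtain ⟨O, hO, hOo, hqO⟩ := eventually_nhds_iff.1 hs
    have hop : IsOpen (Subtype.val ⁻¹' (Subtype.val '' O) : Set (tObj f a).left) :=
      ((M q.1 q.2).isOpen.isOpenEmbedding_subtypeVal.isOpenMap _ hOo).preimage continuous_subtype_val
    refine eventually_nhds_iff.2 ⟨_, ?_, hop, ⟨⟨q.1, hwM q.1 q.2⟩, hqO, rfl⟩⟩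
    rintro q' ⟨p, hp, hpq⟩ z e hz
    obtain ⟨p, hpM⟩ := p
    obtain rfl : p = q'.1 := hpq
    exact (key _ _ (hM q'.1 q'.2) (hM q.1 q.2) (hRM _ _) (hRM _ _) q'.1 (hwM _ _) hpM ⟨z, e⟩).trans
      (hO ⟨q'.1, hpM⟩ hp z e hz)
  refine ⟨⟨τ, hτ⟩, fun b k hk => ?_, fun t ht => ?_⟩
  · refine Subtype.ext (funext fun q => funext fun ⟨z, e⟩ => ?_)
    let w := k.hom.left q
    have hq : q.1 ∈ preOpen k (M w.1 w.2) := ⟨q.2, hwM w.1 w.2⟩
    have h := hx (preHom k (M w.1 w.2)) (tIncl f b.1 (preOpen_le k (M w.1 w.2))) (hRM w.1 w.2) hk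
      (preHom_comp k (hM w.1 w.2))
    exact congrFun (congrFun (congrArg Subtype.val h) ⟨q.1, hq⟩) ⟨z, e⟩
  · refine Subtype.ext (funext fun q => funext fun z => ?_)
    exact congrFun (congrFun (congrArg Subtype.val (ht (tIncl f a.1 (hM q.1 q.2)) (hRM q.1 q.2)))
      ⟨q.1, hwM q.1 q.2⟩) z

variable (f) in
/-- The sheaf of germ families on the total site. -/
def gT : Sheaf (totTop f) AddCommGrpCat.{u} := ⟨gTP F, isSheaf_gTP F⟩

/-- Its restriction to one space is the sheaf of germ families. -/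
def gTRestr (i : TIdx S) : (rF f i).obj (gT f F) ≅ gSh F (tBase f i) :=
  (fullyFaithfulSheafToPresheaf _ _).preimageIso (NatIso.ofComponents (fun _ => Iso.refl _)
    (fun _ => (Category.comp_id _).trans (Category.id_comp _).symm))

/-! ### The pushed system -/

variable (f)

/-- The spaces of the total site. -/
abbrev BaseC : Type u := InducedCategory (Over S) (tBase f)

variable {f}

/-- The map over an open of the base. -/
def overT {i j : BaseC f} (k : i ⟶ j) (U : Opens S) :
    mkT f i ((Opens.map (tBase f i).hom).obj U) ⟶ mkT f j ((Opens.map (tBase f j).hom).obj U) :=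
  InducedCategory.homMk (show over (tBase f i) U ⟶ over (tBase f j) U from (overF U).map k.hom)

/-- The map on the whole spaces. -/
def topT {i j : BaseC f} (k : i ⟶ j) : mkT f i ⊤ ⟶ mkT f j ⊤ :=
  InducedCategory.homMk (Over.homMk
    (TopCat.ofHom ⟨fun q => (⟨k.hom.left q.1, trivial⟩ : (⊤ : Opens (tBase f j).left)),
      (k.hom.left.hom.continuous.comp continuous_subtype_val).subtype_mk _⟩)
    (TopCat.hom_ext (ContinuousMap.ext fun q => ConcreteCategory.congr_hom (Over.w k.hom) q.1)))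

variable (f)

/-- The whole spaces. -/
def topF : BaseC f ⥤ Tot f where
  obj i := mkT f i ⊤
  map k := topT k
  map_id _ := rfl
  map_comp _ _ := rfl

/-- The direct images on the base. -/
def pushSys : Sheaf (totTop f) AddCommGrpCat.{u} ⥤ ((BaseC f)ᵒᵖ ⥤ CohTop.Ab S) where
  obj G :=
    { obj := fun i => (CohTop.push (tBase f i.unop).hom).obj ((rF f i.unop).obj G)
      map := fun k => ⟨{
        app := fun U => G.obj.map (overT k.unop U.unop).op
        naturality := fun U U' h => by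
          show G.obj.map _ ≫ G.obj.map _ = G.obj.map _ ≫ G.obj.map _
          rw [← Functor.map_comp, ← Functor.map_comp]
          exact congrArg G.obj.map (Quiver.Hom.unop_inj (tot_ext fun _ => rfl)) }⟩
      map_id := fun i => CategoryTheory.Sheaf.hom_ext (NatTrans.ext (funext fun U => G.obj.map_id _))
      map_comp := fun k l => CategoryTheory.Sheaf.hom_ext (NatTrans.ext (funext fun U =>
        (congrArg G.obj.map (show (overT (k ≫ l).unop U.unop).op =
          (overT k.unop U.unop).op ≫ (overT l.unop U.unop).op from Quiver.Hom.unop_inj (tot_ext fun _ => rfl))).trans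
          (G.obj.map_comp _ _))) }
  map φ :=
    { app := fun i => (CohTop.push (tBase f i.unop).hom).map ((rF f i.unop).map φ)
      naturality := fun i j k => CategoryTheory.Sheaf.hom_ext (NatTrans.ext (funext fun U => φ.hom.naturality _)) }
  map_id G := NatTrans.ext (funext fun i => rfl)
  map_comp φ ψ := NatTrans.ext (funext fun i => rfl)

instance : (pushSys f).Additive where
  map_add {G G' φ ψ} := NatTrans.ext (funext fun i => CategoryTheory.Sheaf.hom_ext (NatTrans.ext (funext fun U => rfl)))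

/-- The simplicial space of fibre powers. -/
def tPow : SimplexCategoryᵒᵖ ⥤ BaseC f where
  obj n := TIdx.pw n.unop.len
  map g := InducedCategory.homMk (show pow f _ ⟶ pow f _ from (powSimp f).map g)
  map_id n := InducedCategory.hom_ext ((powSimp f).map_id n)
  map_comp g g' := InducedCategory.hom_ext ((powSimp f).map_comp g g')

/-- Maps of fibres. -/
def fibMap (y : S) {m n : ℕ} (α : Fin (m + 1) → Fin (n + 1)) :
    tBase f (.fib y n) ⟶ tBase f (.fib y m) :=
  Over.homMk (TopCat.ofHom ⟨fun q => (⟨(powMap f α).left q.1,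
      (ConcreteCategory.congr_hom (Over.w (powMap f α)) q.1).trans q.2⟩ : fibSet f y m),
      ((powMap f α).left.hom.continuous.comp continuous_subtype_val).subtype_mk _⟩)
    (TopCat.hom_ext (ContinuousMap.ext fun q => ConcreteCategory.congr_hom (Over.w (powMap f α)) q.1))

/-- The simplicial space of fibres. -/
def tFib (y : S) : SimplexCategoryᵒᵖ ⥤ BaseC f where
  obj n := TIdx.fib y n.unop.len
  map g := InducedCategory.homMk (fibMap f y g.unop.toOrderHom)
  map_id n := InducedCategory.hom_ext (Over.OverMorphism.ext (TopCat.hom_ext (ContinuousMap.ext fun q =>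
    Subtype.ext (ConcreteCategory.congr_hom (congrArg Over.Hom.left ((powSimp f).map_id n)) q.1))))
  map_comp g g' := InducedCategory.hom_ext (Over.OverMorphism.ext (TopCat.hom_ext (ContinuousMap.ext fun q =>
    Subtype.ext (ConcreteCategory.congr_hom (congrArg Over.Hom.left ((powSimp f).map_comp g g')) q.1))))

end Groth.Agent.TopDescent

end
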